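import Cfsg.Agent.Lib.CharInd.Basic
import Mathlib.LinearAlgebra.StdBasis

/-!
# Induced characters are characters; small closure properties used with induction.
-/

set_option autoImplicit false

open scoped ComplexConjugate
open Cfsg

namespace Cfsg.Agent.CharInd

universe u v

variable {G : Type u} [Group G]

/-- The trace function of any finite-dimensional representation is a character. -/
theorem isCharacter_of_rep {V : Type v} [AddCommGroup V] [Module ℂ V] [FiniteDimensional ℂ V]
    (ρ : Representation ℂ G V) : IsCharacter G ρ.character := by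
  let e : V ≃ₗ[ℂ] (Fin (Module.finrank ℂ V) → ℂ) := (Module.finBasis ℂ V).equivFun
  refine ⟨Module.finrank ℂ V,
    { toFun := fun g => e.conj (ρ g), map_one' := ?_, map_mul' := ?_ }, ?_⟩
  · simp [Module.End.one_eq_id]
  · intro g h
    simp [map_mul, Module.End.mul_eq_comp, LinearEquiv.conj_comp]
  · funext g
    exact LinearMap.trace_conj' (ρ g) e

theorem isClassFunction_of_isCharacter {χ : G → ℂ} (h : IsCharacter G χ) :
    IsClassFunction G χ := by
  obtain ⟨n, ρ, rfl⟩ := h
  intro g x
  exact Representation.char_conj ρ g x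

theorem isCharacter_zero : IsCharacter G 0 := by
  refine ⟨0, Representation.trivial ℂ G _, ?_⟩
  funext g
  simp [Representation.character]

theorem isCharacter_add {χ ψ : G → ℂ} (hχ : IsCharacter G χ) (hψ : IsCharacter G ψ) :
    IsCharacter G (χ + ψ) := by
  obtain ⟨n, ρ, rfl⟩ := hχ
  obtain ⟨m, σ, rfl⟩ := hψ
  have := isCharacter_of_rep (ρ.prod σ)
  convert this using 1
  funext g
  simp only [Representation.character, Pi.add_apply]
  exact (LinearMap.trace_prodMap' (ρ g) (σ g)).symm

theorem isCharacter_mul {χ ψ : G → ℂ} (hχ : IsCharacter G χ) (hψ : IsCharacter G ψ) :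
    IsCharacter G (χ * ψ) := by
  obtain ⟨n, ρ, rfl⟩ := hχ
  obtain ⟨m, σ, rfl⟩ := hψ
  have := isCharacter_of_rep (ρ.tprod σ)
  rwa [Representation.char_tensor] at this

theorem isCharacter_restrict {χ : G → ℂ} (hχ : IsCharacter G χ) (H : Subgroup G) :
    IsCharacter H (fun h : H => χ h) := by
  obtain ⟨n, ρ, rfl⟩ := hχ
  exact ⟨n, ρ.comp H.subtype, rfl⟩

theorem isCharacter_comp {H : Type v} [Group H] {χ : G → ℂ} (hχ : IsCharacter G χ) (f : H →* G) :
    IsCharacter H (fun h => χ (f h)) := by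
  obtain ⟨n, ρ, rfl⟩ := hχ
  exact ⟨n, ρ.comp f, rfl⟩

/-- The representation on functions `G ⧸ H → W` induced from a representation of `H` on `W`. -/
noncomputable def indRep {W : Type v} [AddCommGroup W] [Module ℂ W] {H : Subgroup G}
    (ρ : Representation ℂ H W) : Representation ℂ G (G ⧸ H → W) where
  toFun g := LinearMap.pi fun q =>
    (ρ ⟨q.out⁻¹ * g * (g⁻¹ • q).out, by
      rw [mul_assoc, ← QuotientGroup.eq, QuotientGroup.out_eq', ← smul_eq_mul,
        ← MulAction.Quotient.smul_mk, QuotientGroup.out_eq', smul_inv_smul]⟩).comp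
      (LinearMap.proj (g⁻¹ • q))
  map_one' := by
    apply LinearMap.ext; intro f; funext q
    simp only [LinearMap.pi_apply, LinearMap.comp_apply, LinearMap.proj_apply,
      Module.End.one_apply]
    have : (⟨q.out⁻¹ * 1 * ((1 : G)⁻¹ • q).out, by simp⟩ : H) = 1 := Subtype.ext (by simp)
    rw [this, map_one, inv_one, one_smul]
    rfl
  map_mul' g g' := by
    apply LinearMap.ext; intro f; funext q
    simp only [LinearMap.pi_apply, LinearMap.comp_apply, LinearMap.proj_apply,
      Module.End.mul_apply]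
    rw [← Module.End.mul_apply, ← map_mul]
    have hs : (g * g')⁻¹ • q = g'⁻¹ • g⁻¹ • q := by rw [mul_inv_rev, mul_smul]
    have aux : ∀ (x y : G ⧸ H) (a b : H), x = y → a = b → ρ a (f x) = ρ b (f y) := by
      rintro x y a b rfl rfl; rfl
    refine aux _ _ _ _ hs (Subtype.ext ?_)
    simp only [Subgroup.coe_mul, mul_assoc, mul_inv_cancel_left, hs]

theorem indRep_apply {W : Type v} [AddCommGroup W] [Module ℂ W] {H : Subgroup G}
    (ρ : Representation ℂ H W) (g : G) (f : G ⧸ H → W) (q : G ⧸ H) (h : H)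
    (hh : (h : G) = q.out⁻¹ * g * (g⁻¹ • q).out) :
    indRep ρ g f q = ρ h (f (g⁻¹ • q)) := by
  have : h = ⟨q.out⁻¹ * g * (g⁻¹ • q).out, hh ▸ h.2⟩ := Subtype.ext hh
  rw [this]
  rfl

theorem char_indRep [Fintype G] {H : Subgroup G} {n : ℕ} (ρ : Representation ℂ H (Fin n → ℂ)) :
    (indRep ρ).character = indFun H ρ.character := by
  classical
  haveI := Fintype.ofFinite (G ⧸ H)
  funext g
  rw [indFun_apply_cosets (fun a b => Representation.char_conj ρ a b) Quotient.out
    QuotientGroup.out_eq' g]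
  rw [Representation.character,
    LinearMap.trace_eq_matrix_trace ℂ (Pi.basis fun _ : G ⧸ H => Pi.basisFun ℂ (Fin n))]
  simp only [Matrix.trace, Matrix.diag, LinearMap.toMatrix_apply]
  rw [Fintype.sum_sigma]
  refine Finset.sum_congr rfl fun q _ => ?_
  have hiff : q.out⁻¹ * g * q.out ∈ H ↔ g⁻¹ • q = q := by
    rw [mul_assoc, ← QuotientGroup.eq, inv_smul_eq_iff]
    conv_rhs => rw [← QuotientGroup.out_eq' q, MulAction.Quotient.smul_mk, smul_eq_mul]
  have hb : ∀ i : Fin n,
      (Pi.basis fun _ : G ⧸ H => Pi.basisFun ℂ (Fin n)) ⟨q, i⟩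
        = Pi.single q (Pi.single i (1 : ℂ)) := fun i => by
    rw [Pi.basis_apply, Pi.basisFun_apply]
  simp only [hb, Pi.basis_repr, Pi.basisFun_repr]
  by_cases hq : q.out⁻¹ * g * q.out ∈ H
  · rw [extendByZero_mem _ hq, Representation.character,
      LinearMap.trace_eq_matrix_trace ℂ (Pi.basisFun ℂ (Fin n))]
    simp only [Matrix.trace, Matrix.diag, LinearMap.toMatrix_apply, Pi.basisFun_apply,
      Pi.basisFun_repr]
    refine Finset.sum_congr rfl fun i _ => ?_
    rw [indRep_apply ρ g _ q ⟨_, hq⟩ (by rw [hiff.1 hq]), hiff.1 hq, Pi.single_eq_same]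
  · rw [extendByZero_notMem _ hq]
    refine Finset.sum_eq_zero fun i _ => ?_
    have hne : g⁻¹ • q ≠ q := fun h => hq (hiff.2 h)
    show (indRep ρ g (Pi.single q (Pi.single i (1 : ℂ))) q) i = 0
    simp only [indRep, MonoidHom.coe_mk, OneHom.coe_mk, LinearMap.pi_apply, LinearMap.comp_apply,
      LinearMap.proj_apply, Pi.single_eq_of_ne hne, map_zero, Pi.zero_apply]

theorem isCharacter_indFun [Fintype G] (H : Subgroup G) {θ : H → ℂ} (hθ : IsCharacter H θ) :
    IsCharacter G (indFun H θ) := by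
  obtain ⟨n, ρ, rfl⟩ := hθ
  rw [← char_indRep]
  exact isCharacter_of_rep _

theorem isGeneralizedCharacter_indFun [Fintype G] (H : Subgroup G) {θ : H → ℂ}
    (hθ : IsGeneralizedCharacter H θ) : IsGeneralizedCharacter G (indFun H θ) := by
  obtain ⟨χ, ψ, hχ, hψ, rfl⟩ := hθ
  exact ⟨_, _, isCharacter_indFun H hχ, isCharacter_indFun H hψ, indFun_sub H χ ψ⟩

end Cfsg.Agent.CharInd
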