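import Cfsg.Prelude.Def_Characters
import Mathlib.GroupTheory.Coset.Card
import Mathlib.GroupTheory.QuotientGroup.Basic

/-!
# Basic algebra of `Cfsg.indFun`

Values, linearity, Frobenius reciprocity, the projection formula, transitivity.
-/

set_option autoImplicit false

open scoped ComplexConjugate
open Cfsg

namespace Cfsg.Agent.CharInd

universe u

variable {G : Type u} [Group G]

theorem extendByZero_coe (H : Subgroup G) (θ : H → ℂ) (h : H) :
    extendByZero H θ (h : G) = θ h :=
  Subtype.val_injective.extend_apply _ _ _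

theorem extendByZero_mem {H : Subgroup G} (θ : H → ℂ) {g : G} (hg : g ∈ H) :
    extendByZero H θ g = θ ⟨g, hg⟩ :=
  extendByZero_coe H θ ⟨g, hg⟩

theorem extendByZero_notMem {H : Subgroup G} (θ : H → ℂ) {g : G} (hg : g ∉ H) :
    extendByZero H θ g = 0 := by
  unfold extendByZero
  rw [Function.extend_apply']
  · rfl
  · rintro ⟨h, rfl⟩
    exact hg h.2

theorem sum_extendByZero_mul [Fintype G] (H : Subgroup G) [Fintype H] (θ : H → ℂ) (φ : G → ℂ) :
    ∑ g : G, extendByZero H θ g * φ g = ∑ h : H, θ h * φ h := by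
  classical
  rw [← Finset.sum_subset (Finset.subset_univ (Finset.univ.filter fun g : G => g ∈ H))
    (fun g _ hg => by rw [extendByZero_notMem θ (by simpa using hg), zero_mul])]
  rw [Finset.sum_subtype (p := fun g => g ∈ H) _ (fun g => by simp)]
  exact Finset.sum_congr rfl fun h _ => by rw [extendByZero_coe]

theorem extendByZero_conj_mem {H : Subgroup G} {θ : H → ℂ} (hθ : IsClassFunction H θ) (h : H)
    (y : G) : extendByZero H θ ((h : G) * y * (h : G)⁻¹) = extendByZero H θ y := by
  by_cases hy : y ∈ H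
  · have hy' : (h : G) * y * (h : G)⁻¹ ∈ H := H.mul_mem (H.mul_mem h.2 hy) (H.inv_mem h.2)
    rw [extendByZero_mem θ hy, extendByZero_mem θ hy']
    exact hθ ⟨y, hy⟩ h
  · rw [extendByZero_notMem θ hy, extendByZero_notMem]
    intro hy'
    apply hy
    have := H.mul_mem (H.mul_mem (H.inv_mem h.2) hy') h.2
    simpa [mul_assoc] using this

section Fintype

variable [Fintype G]

theorem natCard_subgroup_ne_zero (H : Subgroup G) : (Nat.card H : ℂ) ≠ 0 :=
  Nat.cast_ne_zero.2 Nat.card_pos.ne'

theorem indFun_apply (H : Subgroup G) (θ : H → ℂ) (g : G) :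
    indFun H θ g = (Nat.card H : ℂ)⁻¹ * ∑ x : G, extendByZero H θ (x⁻¹ * g * x) := rfl

theorem isClassFunction_indFun (H : Subgroup G) (θ : H → ℂ) :
    IsClassFunction G (indFun H θ) := by
  intro g h
  rw [indFun_apply, indFun_apply]
  congr 1
  exact Fintype.sum_equiv (Equiv.mulLeft h⁻¹) _ _ fun x => by
    simp only [Equiv.coe_mulLeft, mul_inv_rev, inv_inv, mul_assoc]

theorem indFun_eq_zero_of_forall_notMem (H : Subgroup G) (θ : H → ℂ) {g : G}
    (hg : ∀ x : G, x⁻¹ * g * x ∉ H) : indFun H θ g = 0 := by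
  rw [indFun_apply, Finset.sum_eq_zero fun x _ => extendByZero_notMem θ (hg x), mul_zero]

theorem indFun_zero (H : Subgroup G) : indFun H (0 : H → ℂ) = 0 := by
  funext g
  rw [indFun_apply, Finset.sum_eq_zero, mul_zero, Pi.zero_apply]
  intro x _
  by_cases hx : x⁻¹ * g * x ∈ H
  · rw [extendByZero_mem _ hx]; rfl
  · exact extendByZero_notMem _ hx

theorem indFun_add (H : Subgroup G) (θ φ : H → ℂ) :
    indFun H (θ + φ) = indFun H θ + indFun H φ := by
  funext g
  simp only [indFun_apply, Pi.add_apply, ← mul_add, ← Finset.sum_add_distrib]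
  congr 1
  refine Finset.sum_congr rfl fun x _ => ?_
  by_cases hx : x⁻¹ * g * x ∈ H
  · simp [extendByZero_mem, hx]
  · simp [extendByZero_notMem, hx]

theorem indFun_smul (H : Subgroup G) (c : ℂ) (θ : H → ℂ) :
    indFun H (c • θ) = c • indFun H θ := by
  funext g
  simp only [indFun_apply, Pi.smul_apply, smul_eq_mul]
  rw [mul_left_comm]
  congr 1
  rw [Finset.mul_sum]
  refine Finset.sum_congr rfl fun x _ => ?_
  by_cases hx : x⁻¹ * g * x ∈ H
  · simp [extendByZero_mem, hx]
  · simp [extendByZero_notMem, hx]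

/-- `indFun H` as a linear map. -/
noncomputable def indLinear (H : Subgroup G) : (H → ℂ) →ₗ[ℂ] (G → ℂ) where
  toFun := indFun H
  map_add' := indFun_add H
  map_smul' := indFun_smul H

@[simp] theorem indLinear_apply (H : Subgroup G) (θ : H → ℂ) : indLinear H θ = indFun H θ := rfl

theorem indFun_neg (H : Subgroup G) (θ : H → ℂ) : indFun H (-θ) = -indFun H θ :=
  map_neg (indLinear H) θ

theorem indFun_sub (H : Subgroup G) (θ φ : H → ℂ) :
    indFun H (θ - φ) = indFun H θ - indFun H φ :=
  map_sub (indLinear H) θ φ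

theorem indFun_sum {ι : Type*} (H : Subgroup G) (s : Finset ι) (θ : ι → H → ℂ) :
    indFun H (∑ i ∈ s, θ i) = ∑ i ∈ s, indFun H (θ i) :=
  map_sum (indLinear H) θ s

theorem indFun_list_sum (H : Subgroup G) (l : List (H → ℂ)) :
    indFun H l.sum = (l.map (indFun H)).sum :=
  map_list_sum (indLinear H) l

theorem indFun_apply_one (H : Subgroup G) (θ : H → ℂ) :
    indFun H θ 1 = (H.index : ℂ) * θ 1 := by
  rw [indFun_apply]
  simp only [mul_one, inv_mul_cancel, Finset.sum_const, Finset.card_univ, nsmul_eq_mul]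
  rw [extendByZero_mem θ H.one_mem, Fintype.card_eq_nat_card, ← Subgroup.index_mul_card H,
    Nat.cast_mul]
  field_simp [natCard_subgroup_ne_zero H]
  rfl

theorem indFun_top {θ : (⊤ : Subgroup G) → ℂ} (hθ : IsClassFunction (⊤ : Subgroup G) θ) (g : G) :
    indFun (⊤ : Subgroup G) θ g = θ ⟨g, trivial⟩ := by
  rw [indFun_apply, Finset.sum_congr rfl fun x _ => ?_, Finset.sum_const, Finset.card_univ,
    Fintype.card_eq_nat_card, nsmul_eq_mul, ← mul_assoc]
  rotate_left
  · exact θ ⟨g, trivial⟩
  · rw [extendByZero_mem θ (Subgroup.mem_top _)]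
    exact (congrArg θ (Subtype.ext (by simp))).trans
      (hθ ⟨g, Subgroup.mem_top _⟩ ⟨x⁻¹, Subgroup.mem_top _⟩)
  · rw [show (Nat.card (⊤ : Subgroup G)) = Nat.card G from
      Nat.card_congr (Subgroup.topEquiv.toEquiv), inv_mul_cancel₀, one_mul]
    exact Nat.cast_ne_zero.2 Nat.card_pos.ne'

/-- Induced functions as sums over left cosets, with any choice of representatives. -/
theorem indFun_apply_cosets {H : Subgroup G} [Fintype (G ⧸ H)] {θ : H → ℂ}
    (hθ : IsClassFunction H θ) (r : G ⧸ H → G) (hr : ∀ q, (r q : G ⧸ H) = q) (g : G) :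
    indFun H θ g = ∑ q : G ⧸ H, extendByZero H θ ((r q)⁻¹ * g * r q) := by
  classical
  have key : ∀ x : G, extendByZero H θ (x⁻¹ * g * x)
      = extendByZero H θ ((r (x : G ⧸ H))⁻¹ * g * r (x : G ⧸ H)) := by
    intro x
    have hmem : (r (x : G ⧸ H))⁻¹ * x ∈ H := QuotientGroup.eq.1 (hr _)
    rw [← extendByZero_conj_mem hθ ⟨_, hmem⟩ (x⁻¹ * g * x)]
    simp only [mul_inv_rev, inv_inv, mul_assoc, mul_inv_cancel_left, inv_mul_cancel_left]
  rw [indFun_apply, Finset.sum_congr rfl fun x _ => key x]
  rw [← Finset.sum_fiberwise_of_maps_to (t := (Finset.univ : Finset (G ⧸ H)))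
    (g := fun x : G => (x : G ⧸ H)) (fun x _ => Finset.mem_univ _), Finset.mul_sum]
  refine Finset.sum_congr rfl fun q _ => ?_
  rw [Finset.sum_congr rfl fun x hx => by rw [(Finset.mem_filter.1 hx).2],
    Finset.sum_const, nsmul_eq_mul, ← mul_assoc]
  have hcard : (Finset.univ.filter fun x : G => (x : G ⧸ H) = q).card = Nat.card H := by
    rw [← Nat.card_eq_finsetCard]
    refine Nat.card_congr
      { toFun := fun x => ⟨(r q)⁻¹ * x.1, QuotientGroup.eq.1
          ((hr q).trans (Finset.mem_filter.1 x.2).2.symm)⟩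
        invFun := fun h => ⟨r q * h.1, Finset.mem_filter.2 ⟨Finset.mem_univ _, ?_⟩⟩
        left_inv := fun x => Subtype.ext (by simp)
        right_inv := fun h => Subtype.ext (by simp) }
    rw [QuotientGroup.mk_mul_of_mem _ h.2, hr]
  rw [hcard, inv_mul_cancel₀ (natCard_subgroup_ne_zero H), one_mul]

theorem classInner_indFun_left (H : Subgroup G) [Fintype H] (θ : H → ℂ) {χ : G → ℂ}
    (hχ : IsClassFunction G χ) :
    classInner (indFun H θ) χ = classInner θ (fun h : H => χ h) := by
  unfold classInner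
  simp only [indFun_apply]
  rw [Finset.sum_congr rfl fun g _ => by rw [mul_assoc, Finset.sum_mul], ← Finset.mul_sum,
    Finset.sum_comm]
  have key : ∀ x : G, ∑ g : G, extendByZero H θ (x⁻¹ * g * x) * conj (χ g)
      = ∑ h : H, θ h * conj (χ h) := by
    intro x
    rw [← sum_extendByZero_mul H θ fun g => conj (χ g)]
    refine Fintype.sum_equiv ((Equiv.mulLeft x⁻¹).trans (Equiv.mulRight x)) _ _ fun g => ?_
    simp only [Equiv.trans_apply, Equiv.coe_mulLeft, Equiv.coe_mulRight]
    have := hχ g x⁻¹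
    rw [inv_inv] at this
    rw [this]
  rw [Finset.sum_congr rfl fun x _ => key x, Finset.sum_const, Finset.card_univ,
    Fintype.card_eq_nat_card, nsmul_eq_mul]
  field_simp [natCard_subgroup_ne_zero H, (Nat.cast_ne_zero (R := ℂ)).2
    (Nat.card_pos (α := G)).ne']

theorem classInner_swap (φ ψ : G → ℂ) : conj (classInner φ ψ) = classInner ψ φ := by
  simp only [classInner, map_mul, map_inv₀, map_natCast, map_sum, Complex.conj_conj]
  exact congrArg _ (Finset.sum_congr rfl fun _ _ => mul_comm _ _)

theorem classInner_indFun_right (H : Subgroup G) [Fintype H] (θ : H → ℂ) {χ : G → ℂ}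
    (hχ : IsClassFunction G χ) :
    classInner χ (indFun H θ) = classInner (fun h : H => χ h) θ := by
  rw [← classInner_swap, classInner_indFun_left H θ hχ, classInner_swap]

/-- Projection formula. -/
theorem indFun_mul (H : Subgroup G) (θ : H → ℂ) {φ : G → ℂ} (hφ : IsClassFunction G φ) :
    indFun H θ * φ = indFun H (fun h => θ h * φ h) := by
  funext g
  simp only [Pi.mul_apply, indFun_apply]
  rw [mul_assoc, Finset.sum_mul]
  congr 1
  refine Finset.sum_congr rfl fun x _ => ?_
  by_cases hx : x⁻¹ * g * x ∈ H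
  · rw [extendByZero_mem _ hx, extendByZero_mem _ hx]
    dsimp only
    have := hφ g x⁻¹
    rw [inv_inv] at this
    rw [this]
  · rw [extendByZero_notMem _ hx, extendByZero_notMem _ hx, zero_mul]

/-- Transitivity, for a subgroup `L` of a subgroup `K`. -/
theorem indFun_indFun (K : Subgroup G) [Fintype K] (L : Subgroup K) (θ : L → ℂ) :
    indFun K (indFun L θ)
      = indFun (L.map K.subtype)
          (fun x => θ ((L.equivMapOfInjective K.subtype K.subtype_injective).symm x)) := by
  set e := L.equivMapOfInjective K.subtype K.subtype_injective with he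
  set θ' : L.map K.subtype → ℂ := fun x => θ (e.symm x) with hθ'
  have hcard : Nat.card (L.map K.subtype) = Nat.card L := Nat.card_congr e.toEquiv.symm
  have key : ∀ y : G, extendByZero K (indFun L θ) y
      = (Nat.card L : ℂ)⁻¹ * ∑ k : K, extendByZero (L.map K.subtype) θ' ((k : G)⁻¹ * y * k) := by
    intro y
    by_cases hy : y ∈ K
    · rw [extendByZero_mem _ hy, indFun_apply]
      congr 1
      refine Finset.sum_congr rfl fun k _ => ?_
      by_cases hk : k⁻¹ * ⟨y, hy⟩ * k ∈ L
      · rw [extendByZero_mem _ hk]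
        have : (k : G)⁻¹ * y * k = ((e ⟨_, hk⟩ : L.map K.subtype) : G) := rfl
        rw [this, extendByZero_coe, hθ']
        simp
      · rw [extendByZero_notMem _ hk, extendByZero_notMem]
        rintro ⟨z, hz, hz'⟩
        apply hk
        have : z = k⁻¹ * ⟨y, hy⟩ * k := Subtype.ext hz'
        rwa [← this]
    · rw [extendByZero_notMem _ hy, Finset.sum_eq_zero, mul_zero]
      intro k _
      apply extendByZero_notMem
      intro hmem
      apply hy
      have h1 : (k : G)⁻¹ * y * k ∈ K := Subgroup.map_subtype_le _ hmem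
      have := K.mul_mem (K.mul_mem k.2 h1) (K.inv_mem k.2)
      simpa [mul_assoc] using this
  funext g
  simp only [indFun_apply, hcard]
  rw [Finset.sum_congr rfl fun x _ => key (x⁻¹ * g * x), ← Finset.mul_sum, Finset.sum_comm]
  have inner : ∀ k : K,
      ∑ x : G, extendByZero (L.map K.subtype) θ' ((k : G)⁻¹ * (x⁻¹ * g * x) * k)
        = ∑ x : G, extendByZero (L.map K.subtype) θ' (x⁻¹ * g * x) := by
    intro k
    refine Fintype.sum_equiv (Equiv.mulRight (k : G)) _ _ fun x => ?_
    simp only [Equiv.coe_mulRight, mul_inv_rev, mul_assoc]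
  rw [Finset.sum_congr rfl fun k _ => inner k, Finset.sum_const, Finset.card_univ,
    Fintype.card_eq_nat_card, nsmul_eq_mul]
  field_simp [natCard_subgroup_ne_zero K]

/-- The permutation character of the action on `G ⧸ H` is induced from the trivial character. -/
theorem indFun_one_eq_fixedBy (H : Subgroup G) (g : G) :
    indFun H (fun _ => (1 : ℂ)) g = (Nat.card (MulAction.fixedBy (G ⧸ H) g) : ℂ) := by
  classical
  haveI := Fintype.ofFinite (G ⧸ H)
  rw [indFun_apply_cosets (θ := fun _ => (1 : ℂ)) (fun _ _ => rfl) Quotient.out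
    QuotientGroup.out_eq' g]
  rw [show (MulAction.fixedBy (G ⧸ H) g) = {q | g • q = q} from rfl,
    Nat.card_eq_fintype_card, Fintype.card_subtype]
  rw [Finset.natCast_card_filter]
  refine Finset.sum_congr rfl fun q _ => ?_
  have hiff : q.out⁻¹ * g * q.out ∈ H ↔ g • q = q := by
    rw [mul_assoc, ← QuotientGroup.eq, eq_comm]
    conv_rhs => rw [← QuotientGroup.out_eq' q, MulAction.Quotient.smul_mk, smul_eq_mul]
  by_cases hq : q.out⁻¹ * g * q.out ∈ H
  · rw [extendByZero_mem _ hq, if_pos]
    exact hiff.1 hq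
  · rw [extendByZero_notMem _ hq, if_neg]
    exact fun h => hq (hiff.2 h)

end Fintype

end Cfsg.Agent.CharInd
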