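import Cfsg.Agent.Lib.CharInd.Brauer
import Cfsg.Agent.Lib.CharCore.Virtual
import Cfsg.Agent.Lib.CharClifford.Central
import Mathlib.GroupTheory.SchurZassenhaus

/-!
# Characters of `p`-defect zero vanish off the `p`-regular elements
-/

set_option autoImplicit false

open scoped ComplexConjugate
open Cfsg

namespace Cfsg.Agent.CharInd

universe u

theorem exists_regular_subgroup {E : Type u} [Group E] [Finite E] [Group.IsNilpotent E] (p : ℕ)
    [Fact p.Prime] :
    ∃ (P : Sylow p E) (Q : Subgroup E), Nat.card P * Nat.card Q = Nat.card E ∧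
      (∀ x : E, x ∈ Q ↔ ¬ p ∣ orderOf x) ∧
      ∀ x ∈ Q, ∀ a ∈ (P : Subgroup E), a * x = x * a := by
  classical
  obtain ⟨P⟩ : Nonempty (Sylow p E) := inferInstance
  have hnorm : ∀ (q : ℕ) [Fact q.Prime] (S : Sylow q E), (S : Subgroup E).Normal := by
    intro q hq S
    have h := Group.isNilpotent_of_finite_tfae (G := E) |>.out 0 3
    exact h.1 ‹_› q hq S
  haveI hP : (P : Subgroup E).Normal := hnorm p P
  obtain ⟨Q, hQ⟩ := Subgroup.exists_right_complement'_of_coprime P.card_coprime_index
  have hcard : Nat.card P * Nat.card Q = Nat.card E := hQ.card_mul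
  have hQp : ¬ p ∣ Nat.card Q := by
    rw [← hQ.symm.index_eq_card]; exact P.not_dvd_index
  have hcent : ∀ x : E, ¬ p ∣ orderOf x →
      x ∈ Subgroup.centralizer ((P : Subgroup E) : Set E) := by
    intro x hx
    set C := Subgroup.centralizer ((P : Subgroup E) : Set E) with hC
    haveI : C.Normal := Subgroup.normal_centralizer
    have hd : orderOf (x : E ⧸ C) ∣ orderOf x := orderOf_map_dvd (QuotientGroup.mk' C) x
    have hdi : orderOf (x : E ⧸ C) ∣ C.index := orderOf_dvd_natCard _
    rw [← QuotientGroup.eq_one_iff, ← orderOf_eq_one_iff]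
    by_contra hne
    obtain ⟨q, hq, hqd⟩ := Nat.exists_prime_and_dvd hne
    haveI : Fact q.Prime := ⟨hq⟩
    have hqp : q ≠ p := fun e => hx (e ▸ hqd.trans hd)
    obtain ⟨S⟩ : Nonempty (Sylow q E) := inferInstance
    have hSC : (S : Subgroup E) ≤ C := by
      intro s hs
      rw [hC, Subgroup.mem_centralizer_iff]
      intro a ha
      exact (Subgroup.commute_of_normal_of_disjoint _ _ hP (hnorm q S)
        (IsPGroup.disjoint_of_ne p q (Ne.symm hqp) _ _ P.isPGroup' S.isPGroup') a s ha hs).eq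
    exact S.not_dvd_index ((hqd.trans hdi).trans (Subgroup.index_dvd_of_le hSC))
  have hQx : ∀ x ∈ Q, ¬ p ∣ orderOf x := fun x hx h =>
    hQp (h.trans (Subgroup.orderOf_dvd_natCard Q hx))
  have hcomm : ∀ x ∈ Q, ∀ a ∈ (P : Subgroup E), a * x = x * a := fun x hx a ha =>
    Subgroup.mem_centralizer_iff.1 (hcent x (hQx x hx)) a ha
  have hQn : Q.Normal := by
    refine ⟨fun x hx g => ?_⟩
    have hmem : g ∈ (((P : Subgroup E) ⊔ Q : Subgroup E) : Set E) :=
      hQ.sup_eq_top ▸ Subgroup.mem_top g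
    rw [Subgroup.normal_mul] at hmem
    obtain ⟨a, ha, y, hy, rfl⟩ := hmem
    have hm : y * x * y⁻¹ ∈ Q := Q.mul_mem (Q.mul_mem hy hx) (Q.inv_mem hy)
    have e : a * y * x * (a * y)⁻¹ = a * (y * x * y⁻¹) * a⁻¹ := by group
    rw [e, hcomm _ hm a ha, mul_inv_cancel_right]
    exact hm
  haveI := hQn
  refine ⟨P, Q, hcard, fun x => ⟨hQx x, fun hx => ?_⟩, hcomm⟩
  rw [← QuotientGroup.eq_one_iff, ← orderOf_eq_one_iff]
  have h1 : orderOf (x : E ⧸ Q) ∣ orderOf x := orderOf_map_dvd (QuotientGroup.mk' Q) x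
  have h2 : orderOf (x : E ⧸ Q) ∣ Nat.card P := by
    refine (orderOf_dvd_natCard _).trans (dvd_of_eq ?_)
    show Q.index = Nat.card P
    exact Nat.eq_of_mul_eq_mul_right Nat.card_pos (Q.index_mul_card.trans hcard.symm)
  obtain ⟨j, hj⟩ := P.isPGroup'.exists_card_eq
  exact Nat.eq_one_of_dvd_coprimes
    (Nat.Coprime.pow_right j (((Nat.Prime.coprime_iff_not_dvd Fact.out).2 hx).symm))
    h1 (hj ▸ h2)

/-- If `χ(1)` is divisible by the full `p`-part of `|G|`, `χ` vanishes on `p`-singular elements. -/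
theorem char_eq_zero_of_defect_zero {G : Type u} [Group G] [Fintype G] {χ : G → ℂ}
    (hχ : IsIrrCharacter G χ) (p n m : ℕ) [Fact p.Prime] {r : ℕ} (hG : Nat.card G = p ^ n * r)
    (hr : ¬ p ∣ r) (hm : χ 1 = ((p ^ n * m : ℕ) : ℂ)) (x : G) (hx : p ∣ orderOf x) : χ x = 0 := by
  classical
  have hχc := CharCore.IsIrrCharacter.isCharacter hχ
  have hχcl := CharCore.IsCharacter.isClassFunction hχc
  set θ : G → ℂ := fun g => if p ∣ orderOf g then 0 else χ g with hθ
  have hθcl : IsClassFunction G θ := by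
    intro g h
    have : orderOf (h * g * h⁻¹) = orderOf g := by
      simpa using (MulAut.conj h).orderOf_eq g
    simp only [hθ, this, hχcl g h]
  have hE : ∀ (E : Subgroup G) (q : ℕ), q.Prime → IsElementary q E →
      IsGeneralizedCharacter E (fun e : E => θ e) := by
    intro E q hq hel
    haveI := isNilpotent_of_isElementary hq hel
    haveI : Fintype E := Fintype.ofFinite _
    obtain ⟨P, Q, hPQ, hQ, hcomm⟩ := exists_regular_subgroup (E := E) p
    haveI : Fintype Q := Fintype.ofFinite _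
    rw [CharCore.isGeneralizedCharacter_iff]
    refine ⟨fun a b => hθcl a b, fun φ => ?_⟩
    set S : ℂ := ∑ y : Q, χ ((y : E) : G) * conj ((φ : E → ℂ) y) with hS
    have hsum : ∑ y : E, θ (y : G) * conj ((φ : E → ℂ) y) = S := by
      rw [hS, ← Finset.sum_subset (Finset.subset_univ (Finset.univ.filter fun y : E => y ∈ Q))
        (fun y _ hy => by
          have hy' : p ∣ orderOf y := not_not.1 fun h => hy (by simpa using (hQ y).2 h)
          simp [hθ, Subgroup.orderOf_coe, hy'])]
      rw [Finset.sum_subtype (p := fun y => y ∈ Q) _ (fun y => by simp)]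
      refine Finset.sum_congr rfl fun y _ => ?_
      have hy' : ¬ p ∣ orderOf (y : E) := (hQ y).1 y.2
      show (if p ∣ orderOf ((y : E) : G) then (0 : ℂ) else χ ((y : E) : G)) * _ = _
      rw [Subgroup.orderOf_coe, if_neg hy']
    obtain ⟨k, hk⟩ := CharCore.IsCharacter.exists_classInner_eq_natCast
      (CharCore.isCharacter_restrict (CharCore.isCharacter_restrict hχc E) Q)
      (CharCore.isCharacter_restrict (CharCore.irr_isCharacter φ) Q)
    have hQ0 : (Nat.card Q : ℂ) ≠ 0 := Nat.cast_ne_zero.2 Nat.card_pos.ne'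
    have hSk : S = (Nat.card Q : ℂ) * k := by
      rw [← hk, Cfsg.classInner, mul_inv_cancel_left₀ hQ0]
    have hint : IsIntegral ℤ ((r : ℂ) * S / (Nat.card P : ℂ)) := by
      rw [hS, Finset.mul_sum, Finset.sum_div]
      refine IsIntegral.sum _ fun y _ => ?_
      have hφ := CharCore.IsCharacter.isIntegral (CharCore.irr_isCharacter φ) (y : E)⁻¹
      rw [CharCore.irr_apply_inv] at hφ
      rw [← mul_assoc, mul_div_right_comm]
      refine IsIntegral.mul ?_ hφ
      set g : G := ((y : E) : G) with hg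
      have hω := CharClifford.isIntegral_class_mul_div hχ g
      have hclass : ((Finset.univ.filter fun x => ConjClasses.mk x = ConjClasses.mk g).card)
          = (Subgroup.centralizer ({g} : Set G)).index := by
        rw [Subgroup.centralizer_eq_comap_stabilizer]
        refine Eq.trans ?_
          (Subgroup.index_comap_of_surjective _ (ConjAct.toConjAct (G := G)).surjective).symm
        rw [MulAction.index_stabilizer, ConjAct.orbit_eq_carrier_conjClasses,
          Set.ncard_eq_toFinset_card']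
        congr 1
        ext x
        simp [ConjClasses.mem_carrier_iff_mk_eq]
      have hPC : (P : Subgroup E).map E.subtype ≤ Subgroup.centralizer ({g} : Set G) := by
        rintro _ ⟨a, ha, rfl⟩
        rw [Subgroup.mem_centralizer_iff]
        rintro _ rfl
        exact (congrArg Subtype.val (hcomm y y.2 a ha)).symm
      obtain ⟨c, hc⟩ := Subgroup.card_dvd_of_le hPC
      rw [Nat.card_congr ((P : Subgroup E).equivMapOfInjective E.subtype
        E.subtype_injective).toEquiv.symm] at hc
      have e := (Subgroup.centralizer ({g} : Set G)).index_mul_card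
      rw [hc, hG] at e
      have e' : ((Subgroup.centralizer ({g} : Set G)).index : ℂ) * ((Nat.card P : ℂ) * (c : ℂ))
          = (p : ℂ) ^ n * (r : ℂ) := by exact_mod_cast congrArg (Nat.cast (R := ℂ)) e
      have hP0 : (Nat.card P : ℂ) ≠ 0 := Nat.cast_ne_zero.2 Nat.card_pos.ne'
      have hm0 : χ 1 ≠ 0 := CharCore.irr_apply_one_ne_zero ⟨χ, hχ⟩
      have hmne : ((p : ℂ) ^ n * (m : ℂ)) ≠ 0 := by
        rw [hm] at hm0; push_cast at hm0; exact hm0
      have h2 : (r : ℂ) * χ g / (Nat.card P : ℂ) =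
          ((Finset.univ.filter fun x => ConjClasses.mk x = ConjClasses.mk g).card * χ g / χ 1)
            * ((c * m : ℕ) : ℂ) := by
        rw [hclass, hm]
        push_cast
        rw [div_mul_eq_mul_div, div_eq_div_iff hP0 hmne]
        linear_combination (-(χ g * (m : ℂ))) * e'
      rw [h2]
      refine IsIntegral.mul ?_ (by simpa using! isIntegral_algebraMap (R := ℤ) (A := ℂ) (x := ((c * m : ℕ) : ℤ)))
      convert hω using 6
      all_goals rfl
    obtain ⟨j, hj⟩ := P.isPGroup'.exists_card_eq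
    have hcop : Nat.Coprime (r * Nat.card Q) (Nat.card P) := by
      have hQp : ¬ p ∣ Nat.card Q := by
        intro h
        obtain ⟨z, hz⟩ := exists_prime_orderOf_dvd_card' (G := Q) p h
        exact (hQ z).1 z.2 (by rw [← Subgroup.orderOf_coe] at hz; rw [hz])
      rw [hj]
      refine Nat.Coprime.pow_right j ?_
      exact (((Nat.Prime.coprime_iff_not_dvd Fact.out).2 hr).symm).mul_left
        (((Nat.Prime.coprime_iff_not_dvd Fact.out).2 hQp).symm)
    have hdvd : Nat.card P ∣ r * Nat.card Q * k := by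
      refine CharClifford.dvd_of_mul_isIntegral hint ?_
      rw [hSk]
      push_cast
      field_simp [(Nat.cast_ne_zero (R := ℂ)).2 (Nat.card_pos (α := P)).ne']
    obtain ⟨t, ht⟩ := hcop.symm.dvd_of_dvd_mul_left hdvd
    refine ⟨t, ?_⟩
    rw [Cfsg.classInner, hsum, hSk, ← hPQ, ht]
    push_cast
    field_simp [(Nat.cast_ne_zero (R := ℂ)).2 (Nat.card_pos (α := P)).ne']
  have hθgen := isGeneralizedCharacter_of_elementary hθcl hE
  obtain ⟨k, hk⟩ := CharCore.IsGeneralizedCharacter.exists_classInner_irr_eq_intCast hθgen ⟨χ, hχ⟩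
  have hGR : (0 : ℝ) < Nat.card G := Nat.cast_pos.2 Nat.card_pos
  have h1 : Cfsg.classInner χ χ = 1 := (CharCore.isIrrCharacter_iff.1 hχ).2
  set a : G → ℝ := fun g => Complex.normSq (χ g) with ha
  set b : G → ℝ := fun g => if p ∣ orderOf g then 0 else Complex.normSq (χ g) with hb
  have e1 : Cfsg.classInner χ χ = (((Nat.card G : ℝ)⁻¹ * ∑ g, a g : ℝ) : ℂ) := by
    rw [Cfsg.classInner]
    push_cast
    simp only [ha, Complex.mul_conj]
  have e2 : Cfsg.classInner θ χ = (((Nat.card G : ℝ)⁻¹ * ∑ g, b g : ℝ) : ℂ) := by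
    rw [Cfsg.classInner]
    push_cast
    congr 1
    refine Finset.sum_congr rfl fun g _ => ?_
    simp only [hθ, hb]
    split <;> simp [Complex.mul_conj]
  have e1' : (Nat.card G : ℝ)⁻¹ * ∑ g, a g = 1 := Complex.ofReal_injective (e1.symm.trans h1)
  have e2' : (Nat.card G : ℝ)⁻¹ * ∑ g, b g = (k : ℝ) :=
    Complex.ofReal_injective (e2.symm.trans (hk.trans (Complex.ofReal_intCast k).symm))
  have hba : ∀ g ∈ (Finset.univ : Finset G), b g ≤ a g := by
    intro g _
    simp only [ha, hb]
    split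
    · exact Complex.normSq_nonneg _
    · exact le_rfl
  have hbpos : 0 < ∑ g, b g := by
    refine Finset.sum_pos' (fun g _ => ?_) ⟨1, Finset.mem_univ 1, ?_⟩
    · simp only [hb]
      split
      · exact le_rfl
      · exact Complex.normSq_nonneg _
    · simp only [hb, orderOf_one, Nat.dvd_one]
      rw [if_neg (Fact.out : p.Prime).ne_one]
      exact Complex.normSq_pos.2 (CharCore.irr_apply_one_ne_zero ⟨χ, hχ⟩)
  have hkle : (k : ℝ) ≤ 1 := by
    rw [← e1', ← e2']
    exact mul_le_mul_of_nonneg_left (Finset.sum_le_sum hba) (inv_nonneg.2 hGR.le)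
  have hkpos : (0 : ℝ) < k := e2' ▸ mul_pos (inv_pos.2 hGR) hbpos
  have hk1 : k = 1 := le_antisymm (by exact_mod_cast hkle) (by exact_mod_cast hkpos)
  have heq : ∑ g, b g = ∑ g, a g := by
    refine mul_left_cancel₀ (inv_ne_zero hGR.ne') (e2'.trans ?_)
    rw [e1', hk1, Int.cast_one]
  have h := (Finset.sum_eq_sum_iff_of_le hba).1 heq x (Finset.mem_univ x)
  simp only [ha, hb, if_pos hx] at h
  exact Complex.normSq_eq_zero.1 h.symm

end Cfsg.Agent.CharInd
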