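import Cfsg.Agent.Lib.CharInd.Char
import Mathlib.RepresentationTheory.Irreducible
import Mathlib.LinearAlgebra.Eigenspace.Pi
import Mathlib.LinearAlgebra.Eigenspace.Triangularizable
import Mathlib.Algebra.DirectSum.LinearMap
import Mathlib.Analysis.Complex.Polynomial.Basic

/-!
# Irreducible representations over an abelian normal subgroup

If `A` is an abelian normal subgroup and `ρ` is irreducible, then `ρ` is induced from an
irreducible representation of a subgroup `T ≥ A` on which `A` acts by scalars.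
-/

set_option autoImplicit false

open scoped ComplexConjugate
open Cfsg Module

namespace Cfsg.Agent.CharInd

universe u v

variable {G : Type u} [Group G]

/-- Trace of a map permuting the summands of an internal direct sum. -/
theorem trace_eq_sum_fixed {K M ι : Type*} [Field K] [AddCommGroup M] [Module K M]
    [FiniteDimensional K M] [Fintype ι] [DecidableEq ι] {N : ι → Submodule K M}
    (h : DirectSum.IsInternal N) (σ : ι → ι) {f : Module.End K M}
    (hf : ∀ i, ∀ v ∈ N i, f v ∈ N (σ i)) :
    LinearMap.trace K M f = ∑ i : ι, if hi : σ i = i then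
      LinearMap.trace K (N i) (f.restrict (p := N i) (q := N i)
        (fun v hv => by have := hf i v hv; rwa [hi] at this)) else 0 := by
  classical
  let b : (i : ι) → Basis _ K (N i) := fun i => Module.Free.chooseBasis K (N i)
  rw [LinearMap.trace_eq_matrix_trace K (h.collectedBasis b)]
  simp only [Matrix.trace, Matrix.diag, LinearMap.toMatrix_apply]
  rw [Fintype.sum_sigma]
  refine Finset.sum_congr rfl fun i _ => ?_
  by_cases hi : σ i = i
  · rw [dif_pos hi, LinearMap.trace_eq_matrix_trace K (b i)]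
    simp only [Matrix.trace, Matrix.diag, LinearMap.toMatrix_apply]
    refine Finset.sum_congr rfl fun j _ => ?_
    have hm : f (h.collectedBasis b ⟨i, j⟩) ∈ N i := by
      have := hf i _ (h.collectedBasis_mem b ⟨i, j⟩)
      rwa [hi] at this
    rw [h.collectedBasis_repr_of_mem b hm]
    congr 2
    exact Subtype.ext (by simp [DirectSum.IsInternal.collectedBasis_coe])
  · rw [dif_neg hi]
    refine Finset.sum_eq_zero fun j _ => ?_
    exact h.collectedBasis_repr_of_mem_ne b hi (hf i _ (h.collectedBasis_mem b ⟨i, j⟩))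

variable {V : Type v} [AddCommGroup V] [Module ℂ V]

/-- The simultaneous eigenspace of `A` for the function `μ`. -/
def eigSpace (ρ : Representation ℂ G V) (A : Subgroup G) (μ : A → ℂ) : Submodule ℂ V :=
  ⨅ a : A, Module.End.eigenspace (ρ (a : G)) (μ a)

theorem mem_eigSpace {ρ : Representation ℂ G V} {A : Subgroup G} {μ : A → ℂ} {v : V} :
    v ∈ eigSpace ρ A μ ↔ ∀ a : A, ρ (a : G) v = μ a • v := by
  simp [eigSpace]

/-- Conjugation action on functions on a normal subgroup. -/
def conjFun (A : Subgroup G) [hN : A.Normal] (g : G) (μ : A → ℂ) : A → ℂ :=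
  fun a => μ ⟨g⁻¹ * (a : G) * g, by
    simpa using hN.conj_mem (a : G) a.2 g⁻¹⟩

theorem conjFun_mul (A : Subgroup G) [A.Normal] (g h : G) (μ : A → ℂ) :
    conjFun A (g * h) μ = conjFun A g (conjFun A h μ) := by
  funext a
  simp [conjFun, mul_assoc]

theorem conjFun_one (A : Subgroup G) [A.Normal] (μ : A → ℂ) : conjFun A 1 μ = μ := by
  funext a
  simp [conjFun]

theorem eigSpace_map (ρ : Representation ℂ G V) (A : Subgroup G) [A.Normal] (g : G)
    {μ : A → ℂ} {v : V} (hv : v ∈ eigSpace ρ A μ) :
    ρ g v ∈ eigSpace ρ A (conjFun A g μ) := by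
  rw [mem_eigSpace] at hv ⊢
  intro a
  have := hv ⟨g⁻¹ * (a : G) * g, by simpa using Subgroup.Normal.conj_mem ‹_› (a : G) a.2 g⁻¹⟩
  calc ρ (a : G) (ρ g v) = ρ g (ρ (g⁻¹ * (a : G) * g) v) := by
        rw [← Module.End.mul_apply, ← Module.End.mul_apply, ← map_mul, ← map_mul]
        simp [mul_assoc]
    _ = conjFun A g μ a • ρ g v := by rw [this, map_smul]; rfl

/-- The inertia subgroup of a function on a normal subgroup. -/
def inertiaSubgroup (A : Subgroup G) [A.Normal] (μ : A → ℂ) : Subgroup G where
  carrier := {g | conjFun A g μ = μ}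
  one_mem' := conjFun_one A μ
  mul_mem' {a b} ha hb := by
    show conjFun A (a * b) μ = μ
    rw [conjFun_mul, hb, ha]
  inv_mem' {a} ha := by
    show conjFun A a⁻¹ μ = μ
    conv_lhs => rw [← ha, ← conjFun_mul, inv_mul_cancel, conjFun_one]

/-- The representation of `T` on an invariant subspace `W`. -/
def restRep (ρ : Representation ℂ G V) (T : Subgroup G) (W : Submodule ℂ V)
    (hW : ∀ t ∈ T, ∀ v ∈ W, ρ t v ∈ W) : Representation ℂ T W where
  toFun t := (ρ (t : G)).restrict (hW t t.2)
  map_one' := by ext; simp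
  map_mul' x y := by ext; simp

theorem restRep_apply (ρ : Representation ℂ G V) (T : Subgroup G) (W : Submodule ℂ V)
    (hW : ∀ t ∈ T, ∀ v ∈ W, ρ t v ∈ W) (t : T) (w : W) :
    ((restRep ρ T W hW t w : W) : V) = ρ (t : G) (w : V) := rfl

theorem submodule_bot_or_top (ρ : Representation ℂ G V) [ρ.IsIrreducible] (U : Submodule ℂ V)
    (hU : ∀ g, ∀ v ∈ U, ρ g v ∈ U) : U = ⊥ ∨ U = ⊤ := by
  rcases IsSimpleOrder.eq_bot_or_eq_top (⟨U, fun g v hv => hU g v hv⟩ : Subrepresentation ρ) with
    h | h
  · exact Or.inl (congrArg Subrepresentation.toSubmodule h)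
  · exact Or.inr (congrArg Subrepresentation.toSubmodule h)

theorem nontrivial_of_irreducible (ρ : Representation ℂ G V) [ρ.IsIrreducible] : Nontrivial V := by
  obtain ⟨a, b, hab⟩ := (IsSimpleOrder.toNontrivial : Nontrivial (Subrepresentation ρ))
  by_contra hc
  rw [not_nontrivial_iff_subsingleton] at hc
  exact hab (Subrepresentation.toSubmodule_injective (Subsingleton.elim _ _))

variable [FiniteDimensional ℂ V]

/-- An abelian subgroup has a common eigenvector. -/
theorem exists_eigSpace_ne_bot [Nontrivial V] (ρ : Representation ℂ G V) (A : Subgroup G)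
    (hA : ∀ a ∈ A, ∀ b ∈ A, ρ (a * b) = ρ (b * a)) : ∃ μ : A → ℂ, eigSpace ρ A μ ≠ ⊥ := by
  obtain ⟨W, ⟨hW0, hWA⟩, hmin⟩ := (wellFounded_lt (α := Submodule ℂ V)).has_min
    {W | W ≠ ⊥ ∧ ∀ a : A, ∀ v ∈ W, ρ (a : G) v ∈ W} ⟨⊤, top_ne_bot, fun _ _ _ => trivial⟩
  haveI : Nontrivial W := Submodule.nontrivial_iff_ne_bot.2 hW0
  have hscal : ∀ a : A, ∃ c : ℂ, ∀ v ∈ W, ρ (a : G) v = c • v := by
    intro a
    obtain ⟨c, hc⟩ := Module.End.exists_eigenvalue ((ρ (a : G)).restrict (hWA a))
    obtain ⟨w, hw, hw0⟩ := hc.exists_hasEigenvector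
    refine ⟨c, ?_⟩
    have hle : W ⊓ Module.End.eigenspace (ρ (a : G)) c = W := by
      refine (lt_or_eq_of_le (inf_le_left (a := W))).resolve_left fun hlt => hmin _ ⟨?_, ?_⟩ hlt
      · rw [Submodule.ne_bot_iff]
        refine ⟨w, ⟨w.2, ?_⟩, fun h => hw0 (Subtype.ext h)⟩
        rw [Module.End.mem_eigenspace_iff] at hw
        rw [SetLike.mem_coe, Module.End.mem_eigenspace_iff]
        exact congrArg Subtype.val hw
      · intro b v hv
        refine ⟨hWA b v hv.1, ?_⟩
        have h2 := hv.2
        rw [SetLike.mem_coe, Module.End.mem_eigenspace_iff] at h2 ⊢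
        rw [← Module.End.mul_apply, ← map_mul, hA _ a.2 _ b.2, map_mul, Module.End.mul_apply, h2,
          map_smul]
    intro v hv
    rw [← hle] at hv
    exact Module.End.mem_eigenspace_iff.1 hv.2
  choose μ hμ using hscal
  refine ⟨μ, fun h => hW0 ?_⟩
  rw [eq_bot_iff, ← h]
  exact fun v hv => mem_eigSpace.2 fun a => hμ a v hv

/-- `ρ` is induced from a subgroup on whose module the abelian normal subgroup is scalar. -/
theorem exists_induced_of_commute_normal [Fintype G] (ρ : Representation ℂ G V)
    [ρ.IsIrreducible] (A : Subgroup G) [A.Normal] (hA : ∀ a ∈ A, ∀ b ∈ A, ρ (a * b) = ρ (b * a)) :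
    ∃ (T : Subgroup G) (W : Submodule ℂ V) (hW : ∀ t ∈ T, ∀ v ∈ W, ρ t v ∈ W),
      A ≤ T ∧ (restRep ρ T W hW).IsIrreducible ∧
      (∀ a ∈ A, ∃ c : ℂ, ∀ v ∈ W, ρ a v = c • v) ∧
      (T = ⊤ → ∀ a ∈ A, ∃ c : ℂ, ∀ v : V, ρ a v = c • v) ∧
      Module.finrank ℂ V = T.index * Module.finrank ℂ W ∧
      ρ.character = indFun T (restRep ρ T W hW).character := by
  classical
  haveI := nontrivial_of_irreducible ρ
  obtain ⟨μ, hμ⟩ := exists_eigSpace_ne_bot ρ A hA
  set T := inertiaSubgroup A μ with hT
  set W := eigSpace ρ A μ with hWdef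
  have hW : ∀ t ∈ T, ∀ v ∈ W, ρ t v ∈ W := fun t ht v hv => by
    have := eigSpace_map ρ A t hv
    rwa [show conjFun A t μ = μ from ht] at this
  haveI := Fintype.ofFinite (G ⧸ T)
  let N : G ⧸ T → Submodule ℂ V := fun q => eigSpace ρ A (conjFun A q.out μ)
  have hout : ∀ (g : G) (q : G ⧸ T), conjFun A g (conjFun A q.out μ)
      = conjFun A (g • q).out μ := by
    intro g q
    have hm : (g * q.out)⁻¹ * (g • q).out ∈ T := by
      rw [← QuotientGroup.eq, QuotientGroup.out_eq', ← smul_eq_mul, ← MulAction.Quotient.smul_mk,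
        QuotientGroup.out_eq']
    calc conjFun A g (conjFun A q.out μ)
        = conjFun A (g * q.out) (conjFun A ((g * q.out)⁻¹ * (g • q).out) μ) := by
          rw [show conjFun A ((g * q.out)⁻¹ * (g • q).out) μ = μ from hm, conjFun_mul]
      _ = _ := by rw [← conjFun_mul, mul_inv_cancel_left]
  have hmap : ∀ (g : G) (q : G ⧸ T), ∀ v ∈ N q, ρ g v ∈ N (g • q) := by
    intro g q v hv
    have := eigSpace_map ρ A g hv
    rwa [hout] at this
  have hinj : Function.Injective fun q : G ⧸ T => conjFun A q.out μ := by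
    intro q q' h
    rw [← QuotientGroup.out_eq' q, ← QuotientGroup.out_eq' q', QuotientGroup.eq]
    show conjFun A (q.out⁻¹ * q'.out) μ = μ
    rw [conjFun_mul, ← show conjFun A q.out μ = conjFun A q'.out μ from h, ← conjFun_mul,
      inv_mul_cancel, conjFun_one]
  have hind : iSupIndep N := by
    have hbig := Module.End.independent_iInf_maxGenEigenspace_of_forall_mapsTo
      (fun a : A => ρ (a : G)) (fun a b φ => Module.End.mapsTo_maxGenEigenspace_of_comm
        (show ρ (b : G) * ρ (a : G) = ρ (a : G) * ρ (b : G) by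
          rw [← map_mul, ← map_mul, hA _ b.2 _ a.2]) φ)
    refine (hbig.comp hinj).mono fun q => ?_
    exact iInf_mono fun a => Module.End.eigenspace_le_maxGenEigenspace
  have hqW : ∀ q : G ⧸ T, ∀ w ∈ W, ρ q.out w ∈ N q := fun q w hw => eigSpace_map ρ A q.out hw
  have hNW : ∀ q : G ⧸ T, ∀ v ∈ N q, ρ q.out⁻¹ v ∈ W := by
    intro q v hv
    have := eigSpace_map ρ A q.out⁻¹ hv
    rwa [← conjFun_mul, inv_mul_cancel, conjFun_one] at this
  have htop : iSup N = ⊤ := by
    refine (submodule_bot_or_top ρ _ fun g v hv => ?_).resolve_left ?_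
    · induction hv using Submodule.iSup_induction' with
      | mem q x hx => exact Submodule.mem_iSup_of_mem (g • q) (hmap g q x hx)
      | zero => simp
      | add x y _ _ hx hy => rw [map_add]; exact Submodule.add_mem _ hx hy
    · intro h0
      obtain ⟨w, hw, hw0⟩ := Submodule.exists_mem_ne_zero_of_ne_bot hμ
      have hmem : ρ ((1 : G) : G ⧸ T).out w ∈ iSup N :=
        Submodule.mem_iSup_of_mem _ (hqW _ w hw)
      rw [h0, Submodule.mem_bot] at hmem
      apply hw0
      have := congrArg (ρ ((1 : G) : G ⧸ T).out⁻¹) hmem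
      rwa [← Module.End.mul_apply, ← map_mul, inv_mul_cancel, map_one, map_zero,
        Module.End.one_apply] at this
  have hint := DirectSum.isInternal_submodule_of_iSupIndep_of_iSup_eq_top hind htop
  have hchar : ρ.character = indFun T (restRep ρ T W hW).character := by
    funext g
    rw [indFun_apply_cosets (fun a b => Representation.char_conj _ a b) Quotient.out
      QuotientGroup.out_eq' g, Representation.character,
      trace_eq_sum_fixed hint (fun q => g • q) (hmap g)]
    refine Finset.sum_congr rfl fun q _ => ?_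
    have hiff : q.out⁻¹ * g * q.out ∈ T ↔ g • q = q := by
      rw [mul_assoc, ← QuotientGroup.eq, eq_comm]
      conv_rhs => rw [← QuotientGroup.out_eq' q, MulAction.Quotient.smul_mk, smul_eq_mul]
    by_cases hq : g • q = q
    · rw [dif_pos hq, extendByZero_mem _ (hiff.2 hq), Representation.character]
      let e : W ≃ₗ[ℂ] N q :=
        { toFun := fun w => ⟨ρ q.out w, hqW q w w.2⟩
          map_add' := fun x y => Subtype.ext (map_add _ _ _)
          map_smul' := fun c x => Subtype.ext (map_smul _ _ _)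
          invFun := fun v => ⟨ρ q.out⁻¹ v, hNW q v v.2⟩
          left_inv := fun w => Subtype.ext (by
            simp only [← Module.End.mul_apply, ← map_mul, inv_mul_cancel, map_one,
              Module.End.one_apply])
          right_inv := fun v => Subtype.ext (by
            simp only [← Module.End.mul_apply, ← map_mul, mul_inv_cancel, map_one,
              Module.End.one_apply]) }
      rw [← LinearMap.trace_conj' (restRep ρ T W hW ⟨_, hiff.2 hq⟩) e]
      congr 1
      apply LinearMap.ext
      intro v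
      apply Subtype.ext
      show ρ g v = ρ q.out (ρ (q.out⁻¹ * g * q.out) (ρ q.out⁻¹ v))
      simp only [← Module.End.mul_apply, ← map_mul, mul_assoc, mul_inv_cancel_left,
        mul_inv_cancel, mul_one]
    · rw [dif_neg hq, extendByZero_notMem _ fun h => hq (hiff.1 h)]
  have hfin : Module.finrank ℂ V = T.index * Module.finrank ℂ W := by
    have h := congrFun hchar 1
    rw [indFun_apply_one, Representation.char_one, Representation.char_one] at h
    exact_mod_cast h
  have hscal : ∀ a ∈ A, ∃ c : ℂ, ∀ v ∈ W, ρ a v = c • v :=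
    fun a ha => ⟨μ ⟨a, ha⟩, fun v hv => mem_eigSpace.1 hv ⟨a, ha⟩⟩
  refine ⟨T, W, hW, ?_, ?_, hscal, ?_, hfin, hchar⟩
  · intro a ha
    show conjFun A a μ = μ
    funext b
    obtain ⟨w, hw, hw0⟩ := Submodule.exists_mem_ne_zero_of_ne_bot hμ
    have h1 := mem_eigSpace.1 hw b
    have h2 := mem_eigSpace.1 hw ⟨a⁻¹ * (b : G) * a, by
      simpa using Subgroup.Normal.conj_mem ‹_› (b : G) b.2 a⁻¹⟩
    have h3 : ρ (a⁻¹ * (b : G) * a) = ρ (b : G) := by
      rw [mul_assoc, map_mul ρ a⁻¹, hA _ b.2 _ ha, ← map_mul, inv_mul_cancel_left]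
    simp only [h3, h1] at h2
    exact (smul_left_injective ℂ hw0 h2).symm
  · haveI : Nontrivial W := Submodule.nontrivial_iff_ne_bot.2 hμ
    haveI : Nontrivial (Subrepresentation (restRep ρ T W hW)) := ⟨⟨⊥, ⊤, fun h => by
      have := congrArg Subrepresentation.toSubmodule h
      exact bot_ne_top (α := Submodule ℂ W) this⟩⟩
    refine ⟨fun S => or_iff_not_imp_left.2 fun hS => ?_⟩
    apply Subrepresentation.toSubmodule_injective
    show S.toSubmodule = ⊤
    let L : (G ⧸ T → S.toSubmodule) →ₗ[ℂ] V :=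
      ∑ q : G ⧸ T, (ρ q.out).comp (W.subtype.comp (S.toSubmodule.subtype.comp (LinearMap.proj q)))
    have hL : ∀ f, L f = ∑ q : G ⧸ T, ρ q.out ((f q : W) : V) := fun f => by simp [L]
    have hrange : LinearMap.range L = ⊤ := by
      refine (submodule_bot_or_top ρ _ ?_).resolve_left ?_
      · rintro g _ ⟨f, rfl⟩
        rw [hL, map_sum]
        refine Submodule.sum_mem _ fun q _ => ?_
        have ht : (g • q).out⁻¹ * (g * q.out) ∈ T := by
          rw [← QuotientGroup.eq, QuotientGroup.out_eq', ← smul_eq_mul,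
            ← MulAction.Quotient.smul_mk, QuotientGroup.out_eq']
        refine ⟨Pi.single (g • q) ⟨restRep ρ T W hW ⟨_, ht⟩ (f q),
          S.apply_mem_toSubmodule _ (f q).2⟩, ?_⟩
        rw [hL, Finset.sum_eq_single (g • q)]
        · rw [Pi.single_eq_same, restRep_apply]
          simp only [← Module.End.mul_apply, ← map_mul, mul_inv_cancel_left]
        · intro r _ hr
          rw [Pi.single_eq_of_ne hr]
          simp
        · simp
      · intro h0
        apply hS
        apply Subrepresentation.toSubmodule_injective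
        show S.toSubmodule = ⊥
        rw [eq_bot_iff]
        intro s hs
        have h1 : L (Pi.single ((1 : G) : G ⧸ T) ⟨s, hs⟩) = 0 :=
          (Submodule.eq_bot_iff _).1 h0 _ ⟨_, rfl⟩
        rw [hL, Finset.sum_eq_single ((1 : G) : G ⧸ T)
          (fun r _ hr => by rw [Pi.single_eq_of_ne hr]; simp) (by simp), Pi.single_eq_same] at h1
        have h2 := congrArg (ρ ((1 : G) : G ⧸ T).out⁻¹) h1
        rw [← Module.End.mul_apply, ← map_mul, inv_mul_cancel, map_one, map_zero,
          Module.End.one_apply] at h2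
        exact (Submodule.mem_bot ℂ).2 (Subtype.ext h2)
    have hle : Module.finrank ℂ V ≤ T.index * Module.finrank ℂ S.toSubmodule := by
      have := LinearMap.finrank_range_le L
      rw [hrange, finrank_top, Module.finrank_pi_fintype, Finset.sum_const, Finset.card_univ,
        smul_eq_mul, ← Nat.card_eq_fintype_card] at this
      exact this
    refine Submodule.eq_top_of_finrank_eq (le_antisymm (Submodule.finrank_le _) ?_)
    rw [hfin] at hle
    exact Nat.le_of_mul_le_mul_left hle (Nat.pos_of_ne_zero Subgroup.index_ne_zero_of_finite)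
  · intro htopT a ha
    obtain ⟨c, hc⟩ := hscal a ha
    have hWtop : W = ⊤ := Submodule.eq_top_of_finrank_eq (by
      rw [hfin, htopT, Subgroup.index_top, one_mul])
    exact ⟨c, fun v => hc v (hWtop ▸ trivial)⟩

/-- `ρ` is induced from a subgroup on whose module the abelian normal subgroup is scalar. -/
theorem exists_induced_of_abelian_normal [Fintype G] (ρ : Representation ℂ G V)
    [ρ.IsIrreducible] (A : Subgroup G) [A.Normal] (hA : ∀ a ∈ A, ∀ b ∈ A, a * b = b * a) :
    ∃ (T : Subgroup G) (W : Submodule ℂ V) (hW : ∀ t ∈ T, ∀ v ∈ W, ρ t v ∈ W),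
      A ≤ T ∧ (restRep ρ T W hW).IsIrreducible ∧
      (∀ a ∈ A, ∃ c : ℂ, ∀ v ∈ W, ρ a v = c • v) ∧
      (T = ⊤ → ∀ a ∈ A, ∃ c : ℂ, ∀ v : V, ρ a v = c • v) ∧
      Module.finrank ℂ V = T.index * Module.finrank ℂ W ∧
      ρ.character = indFun T (restRep ρ T W hW).character :=
  exists_induced_of_commute_normal ρ A fun a ha b hb => by rw [hA a ha b hb]

end Cfsg.Agent.CharInd
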