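import Cfsg.Agent.Lib.CharInd.Imprimitive
import Mathlib.GroupTheory.Nilpotent

/-!
# Nilpotent groups are monomial
-/

set_option autoImplicit false

open Cfsg Module

namespace Cfsg.Agent.CharInd

universe u v

variable {G : Type u} [Group G] {V : Type v} [AddCommGroup V] [Module ℂ V]
  [FiniteDimensional ℂ V]

/-- The elements acting as scalars. -/
def scalarSubgroup (ρ : Representation ℂ G V) : Subgroup G where
  carrier := {g | ∃ c : ℂ, ∀ v, ρ g v = c • v}
  one_mem' := ⟨1, fun v => by simp⟩
  mul_mem' {a b} := by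
    rintro ⟨c, hc⟩ ⟨d, hd⟩
    exact ⟨c * d, fun v => by rw [map_mul, Module.End.mul_apply, hd, hc, smul_smul]⟩
  inv_mem' {a} := by
    rintro ⟨c, hc⟩
    refine ⟨c⁻¹, fun v => ?_⟩
    have h1 : c • ρ a⁻¹ v = v := by
      rw [← hc, ← Module.End.mul_apply, ← map_mul, mul_inv_cancel, map_one, Module.End.one_apply]
    by_cases hc0 : c = 0
    · rw [hc0, zero_smul] at h1
      simp [← h1]
    · calc ρ a⁻¹ v = c⁻¹ • (c • ρ a⁻¹ v) := (inv_smul_smul₀ hc0 _).symm
        _ = c⁻¹ • v := by rw [h1]

instance scalarSubgroup_normal (ρ : Representation ℂ G V) : (scalarSubgroup ρ).Normal := by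
  constructor
  rintro a ⟨c, hc⟩ g
  refine ⟨c, fun v => ?_⟩
  rw [map_mul, map_mul, Module.End.mul_apply, Module.End.mul_apply, hc, map_smul,
    ← Module.End.mul_apply, ← map_mul, mul_inv_cancel, map_one, Module.End.one_apply]

theorem mem_scalarSubgroup {ρ : Representation ℂ G V} {g : G} :
    g ∈ scalarSubgroup ρ ↔ ∃ c : ℂ, ∀ v, ρ g v = c • v := Iff.rfl

/-- If every element acts as a scalar, an irreducible representation is one-dimensional. -/
theorem finrank_eq_one_of_scalar (ρ : Representation ℂ G V) [ρ.IsIrreducible]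
    (h : ∀ g, g ∈ scalarSubgroup ρ) : Module.finrank ℂ V = 1 := by
  haveI := nontrivial_of_irreducible ρ
  obtain ⟨v, hv⟩ := exists_ne (0 : V)
  refine finrank_eq_one v hv fun w => ?_
  have hst : ∀ g, ∀ x ∈ Submodule.span ℂ ({v} : Set V), ρ g x ∈ Submodule.span ℂ ({v} : Set V) := by
    intro g x hx
    obtain ⟨c, hc⟩ := h g
    rw [hc]
    exact Submodule.smul_mem _ c hx
  have htop := (submodule_bot_or_top ρ _ hst).resolve_left (by simpa using hv)
  exact Submodule.mem_span_singleton.1 (htop ▸ Submodule.mem_top (x := w))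

/-- A one-dimensional representation has a linear character. -/
theorem exists_linear_of_finrank_one (ρ : Representation ℂ G V) (h : Module.finrank ℂ V = 1) :
    ∃ lam : G →* ℂˣ, ∀ g, ρ.character g = (lam g : ℂ) := by
  have hmul : ∀ g g', ρ.character (g * g') = ρ.character g * ρ.character g' := by
    intro g g'
    obtain ⟨b⟩ : Nonempty (Basis (Fin 1) ℂ V) := ⟨Module.finBasisOfFinrankEq ℂ V h⟩
    simp only [Representation.character, map_mul, LinearMap.trace_eq_matrix_trace ℂ b,
      LinearMap.toMatrix_mul, Matrix.trace_fin_one, Matrix.mul_apply, Fin.sum_univ_one]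
  have h1 : ρ.character 1 = 1 := by rw [Representation.char_one, h, Nat.cast_one]
  have hinv : ∀ g, ρ.character g * ρ.character g⁻¹ = 1 := fun g => by
    rw [← hmul, mul_inv_cancel, h1]
  refine ⟨{ toFun := fun g => ⟨ρ.character g, ρ.character g⁻¹, hinv g, ?_⟩,
            map_one' := Units.ext h1, map_mul' := fun a b => Units.ext (hmul a b) }, fun g => rfl⟩
  rw [← hmul, inv_mul_cancel, h1]

/-- Irreducible characters of finite nilpotent groups are monomial. -/
theorem exists_monomial_of_isNilpotent : ∀ (n : ℕ) (G : Type u) [Group G] [Fintype G]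
    [Group.IsNilpotent G], Nat.card G ≤ n → ∀ {V : Type v} [AddCommGroup V] [Module ℂ V]
    [FiniteDimensional ℂ V] (ρ : Representation ℂ G V) [ρ.IsIrreducible],
      ∃ (H : Subgroup G) (lam : H →* ℂˣ),
        ρ.character = indFun H (fun h => (lam h : ℂ)) := by
  intro n
  induction n with
  | zero => intro G _ _ _ hn; exact absurd hn (not_le.2 Nat.card_pos)
  | succ n IH =>
    intro G _ _ _ hn V _ _ _ ρ _
    by_cases hall : ∀ g, g ∈ scalarSubgroup ρ
    · obtain ⟨lam, hlam⟩ := exists_linear_of_finrank_one ρ (finrank_eq_one_of_scalar ρ hall)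
      refine ⟨⊤, lam.comp (⊤ : Subgroup G).subtype, funext fun g => ?_⟩
      rw [indFun_top (fun a b => ?_) g, hlam]
      · rfl
      · simp only [MonoidHom.comp_apply, map_mul, map_inv]
        rw [mul_comm (lam _) (lam _), mul_inv_cancel_right]
    set K := scalarSubgroup ρ with hK
    haveI : Nontrivial (G ⧸ K) := QuotientGroup.nontrivial_iff.2 fun h => hall fun g => h ▸ trivial
    haveI : Group.IsNilpotent (G ⧸ K) := Group.nilpotent_of_surjective (QuotientGroup.mk' K)
      (QuotientGroup.mk'_surjective K)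
    haveI : Nontrivial (Subgroup.center (G ⧸ K)) := (Subgroup.nontrivial_iff_ne_bot _).2
      (Group.IsNilpotent.center_ne_bot _)
    obtain ⟨⟨z, hz⟩, hz1⟩ := exists_ne (1 : Subgroup.center (G ⧸ K))
    set Z : Subgroup (G ⧸ K) := Subgroup.zpowers z with hZ
    haveI : Z.Normal := ⟨fun a ha g => by
      have hc : a ∈ Subgroup.center (G ⧸ K) :=
        Subgroup.zpowers_le.2 hz ha
      rw [Subgroup.mem_center_iff.1 hc g, mul_inv_cancel_right]
      exact ha⟩
    set A : Subgroup G := Z.comap (QuotientGroup.mk' K) with hA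
    have hcomm : ∀ a ∈ A, ∀ b ∈ A, ρ (a * b) = ρ (b * a) := by
      obtain ⟨x, rfl⟩ := QuotientGroup.mk'_surjective K z
      have hdec : ∀ a ∈ A, ∃ (i : ℤ) (k : G), k ∈ K ∧ a = x ^ i * k := by
        intro a ha
        obtain ⟨i, hi⟩ := Subgroup.mem_zpowers_iff.1 ha
        refine ⟨i, (x ^ i)⁻¹ * a, ?_, (mul_inv_cancel_left _ _).symm⟩
        rw [← map_zpow] at hi
        exact QuotientGroup.eq.1 hi
      intro a ha b hb
      obtain ⟨i, k, ⟨c, hc⟩, rfl⟩ := hdec a ha
      obtain ⟨j, l, ⟨d, hd⟩, rfl⟩ := hdec b hb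
      apply LinearMap.ext
      intro v
      simp only [map_mul, Module.End.mul_apply, hc, hd, map_smul, smul_smul]
      rw [mul_comm d c]
      simp only [← Module.End.mul_apply, ← map_mul]
      rw [(Commute.zpow_zpow (Commute.refl x) i j).eq]
    obtain ⟨T, W, hW, -, hWirr, -, htop, -, hchar⟩ :=
      exists_induced_of_commute_normal ρ A hcomm
    have hT : T ≠ ⊤ := by
      intro h
      obtain ⟨x, hx⟩ := QuotientGroup.mk'_surjective K z
      have hxA : x ∈ A := by
        show QuotientGroup.mk' K x ∈ Z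
        rw [hx]; exact Subgroup.mem_zpowers z
      apply hz1
      apply Subtype.ext
      show z = 1
      rw [← hx, QuotientGroup.mk'_apply, QuotientGroup.eq_one_iff]
      exact htop h x hxA
    haveI : Fintype T := Fintype.ofFinite _
    haveI := hWirr
    have hlt : Nat.card T < Nat.card G :=
      lt_of_le_of_ne (Subgroup.card_le_card_group T) fun h => hT (Subgroup.eq_top_of_card_eq T h)
    obtain ⟨H, lam, hlam⟩ := IH T (by omega) (restRep ρ T W hW)
    refine ⟨H.map T.subtype,
      lam.comp (H.equivMapOfInjective T.subtype T.subtype_injective).symm.toMonoidHom, ?_⟩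
    rw [hchar, hlam, indFun_indFun]
    rfl

end Cfsg.Agent.CharInd
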