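import Cfsg.Agent.Lib.CharInd.Char
import Mathlib.RepresentationTheory.Maschke
import Mathlib.RepresentationTheory.Semisimple
import Mathlib.RepresentationTheory.Irreducible

/-!
# A character lies in any additive set containing the characters of its irreducible subreps
-/

set_option autoImplicit false

open Cfsg Module

namespace Cfsg.Agent.CharInd

universe u v

variable {G : Type u} [Group G] [Finite G] {V : Type v} [AddCommGroup V] [Module ℂ V]
  [FiniteDimensional ℂ V]

theorem char_subrep_sup (ρ : Representation ℂ G V) {A B C : Subrepresentation ρ}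
    (hd : Disjoint A.toSubmodule B.toSubmodule) (hC : A.toSubmodule ⊔ B.toSubmodule = C.toSubmodule) :
    C.toRepresentation.character
      = A.toRepresentation.character + B.toRepresentation.character := by
  funext g
  have hAC : A.toSubmodule ≤ C.toSubmodule := hC ▸ le_sup_left
  have hBC : B.toSubmodule ≤ C.toSubmodule := hC ▸ le_sup_right
  let f : (A.toSubmodule × B.toSubmodule) →ₗ[ℂ] C.toSubmodule :=
    LinearMap.coprod (Submodule.inclusion hAC) (Submodule.inclusion hBC)
  have hinj : Function.Injective f := by
    rw [injective_iff_map_eq_zero]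
    rintro ⟨a, b⟩ hab
    have hab' : (a : V) + (b : V) = 0 := congrArg Subtype.val hab
    have ha : (a : V) = 0 := Submodule.disjoint_def.1 hd a a.2 (by
      rw [eq_neg_of_add_eq_zero_left hab']; exact neg_mem b.2)
    have hb : (b : V) = 0 := by rwa [ha, zero_add] at hab'
    exact Prod.ext (Subtype.ext ha) (Subtype.ext hb)
  have hsurj : Function.Surjective f := by
    rintro ⟨c, hc⟩
    rw [← hC, Submodule.mem_sup] at hc
    obtain ⟨a, ha, b, hb, rfl⟩ := hc
    exact ⟨(⟨a, ha⟩, ⟨b, hb⟩), rfl⟩
  let e := LinearEquiv.ofBijective f ⟨hinj, hsurj⟩
  simp only [Representation.character, Pi.add_apply]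
  rw [← LinearMap.trace_prodMap', ← LinearMap.trace_conj' _ e]
  congr 1
  apply LinearMap.ext
  intro c
  obtain ⟨x, rfl⟩ := e.surjective c
  rw [LinearEquiv.conj_apply_apply, LinearEquiv.symm_apply_apply]
  obtain ⟨a, b⟩ := x
  apply Subtype.ext
  show ρ g ((a : V) + (b : V)) = ρ g (a : V) + ρ g (b : V)
  rw [map_add]

/-- If an additive submonoid contains the character of every irreducible subrepresentation of `ρ`,
it contains the character of `ρ`. -/
theorem char_mem_of_irreducible_subreps (ρ : Representation ℂ G V) (S : AddSubmonoid (G → ℂ))
    (h : ∀ W : Subrepresentation ρ, W.toRepresentation.IsIrreducible →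
      W.toRepresentation.character ∈ S) : ρ.character ∈ S := by
  haveI : Fintype G := Fintype.ofFinite G
  haveI : NeZero (Nat.card G : ℂ) := ⟨Nat.cast_ne_zero.2 Nat.card_pos.ne'⟩
  have key : ∀ (n : ℕ) (W : Subrepresentation ρ), Module.finrank ℂ W.toSubmodule = n →
      W.toRepresentation.character ∈ S := by
    intro n
    induction n using Nat.strong_induction_on with
    | _ n IH =>
      intro W hn
      by_cases h0 : W.toSubmodule = ⊥
      · convert S.zero_mem
        funext g
        haveI : Subsingleton W.toSubmodule := (Submodule.subsingleton_iff_eq_bot).2 h0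
        simp [Representation.character, Subsingleton.elim (W.toRepresentation g) 0]
      by_cases hirr : ∀ A : Subrepresentation ρ, A.toSubmodule < W.toSubmodule → A.toSubmodule = ⊥
      · refine h W ?_
        haveI : Nontrivial W.toSubmodule := Submodule.nontrivial_iff_ne_bot.2 h0
        haveI : Nontrivial (Subrepresentation W.toRepresentation) := ⟨⟨⊥, ⊤, fun e =>
          bot_ne_top (α := Submodule ℂ W.toSubmodule) (congrArg Subrepresentation.toSubmodule e)⟩⟩
        refine ⟨fun A => ?_⟩
        let A' : Subrepresentation ρ := ⟨A.toSubmodule.map W.toSubmodule.subtype, by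
          rintro g _ ⟨x, hx, rfl⟩
          exact ⟨W.toRepresentation g x, A.apply_mem_toSubmodule g hx, rfl⟩⟩
        have hle : A'.toSubmodule ≤ W.toSubmodule := Submodule.map_subtype_le _ _
        rcases lt_or_eq_of_le hle with hlt | heq
        · left
          apply Subrepresentation.toSubmodule_injective
          show A.toSubmodule = ⊥
          exact Submodule.map_injective_of_injective W.toSubmodule.injective_subtype
            ((hirr A' hlt).trans (Submodule.map_bot _).symm)
        · right
          apply Subrepresentation.toSubmodule_injective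
          show A.toSubmodule = ⊤
          exact Submodule.map_injective_of_injective W.toSubmodule.injective_subtype
            (heq.trans (Submodule.map_subtype_top _).symm)
      · push Not at hirr
        obtain ⟨A, hlt, hA0⟩ := hirr
        obtain ⟨B, hB⟩ := exists_isCompl A
        have hd : Disjoint A.toSubmodule (B ⊓ W).toSubmodule := by
          rw [disjoint_iff, Subrepresentation.toSubmodule_inf, ← inf_assoc,
            ← Subrepresentation.toSubmodule_inf, hB.inf_eq_bot]
          exact bot_inf_eq _
        have hsup : A.toSubmodule ⊔ (B ⊓ W).toSubmodule = W.toSubmodule := by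
          rw [Subrepresentation.toSubmodule_inf, ← sup_inf_assoc_of_le _ hlt.le,
            ← Subrepresentation.toSubmodule_sup, hB.sup_eq_top]
          exact top_inf_eq _
        rw [char_subrep_sup ρ hd hsup]
        refine S.add_mem (IH _ (hn ▸ Submodule.finrank_lt_finrank_of_lt hlt) A rfl)
          (IH _ (hn ▸ Submodule.finrank_lt_finrank_of_lt ?_) (B ⊓ W) rfl)
        refine lt_of_le_of_ne inf_le_right fun e => hA0 ?_
        rw [disjoint_iff, e, inf_eq_left.2 hlt.le] at hd
        exact hd
  have := key _ ⊤ rfl
  convert this using 1
  funext g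
  simp only [Representation.character]
  exact (LinearMap.trace_conj' ((⊤ : Subrepresentation ρ).toRepresentation g)
    (Submodule.topEquiv (R := ℂ) (M := V))).symm.trans (by rfl) |>.symm

end Cfsg.Agent.CharInd
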