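import Cfsg.Agent.Lib.CharInd.Solomon
import Cfsg.Agent.Lib.CharInd.Imprimitive
import Cfsg.Agent.Lib.CharInd.Subreps
import Cfsg.Agent.Lib.CharInd.Monomial

/-!
# Brauer's induction theorem
-/

set_option autoImplicit false

open Cfsg Module

namespace Cfsg.Agent.CharInd

universe u

variable {G : Type u} [Group G] [Fintype G]

/-- The span of the characters induced from elementary subgroups. -/
noncomputable def elemSpan (G : Type u) [Group G] [Fintype G] : AddSubgroup (G → ℂ) :=
  AddSubgroup.closure {f | ∃ (E : Subgroup G) (p : ℕ) (φ : E → ℂ),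
    p.Prime ∧ IsElementary p E ∧ IsCharacter E φ ∧ f = indFun E φ}

/-- The span of the functions induced from linear characters of elementary subgroups. -/
noncomputable def linSpan (G : Type u) [Group G] [Fintype G] : AddSubgroup (G → ℂ) :=
  AddSubgroup.closure {f | ∃ (E : Subgroup G) (p : ℕ) (lam : E →* ℂˣ),
    p.Prime ∧ IsElementary p E ∧ f = indFun E (fun e => (lam e : ℂ))}

theorem indFun_mem_elemSpan (K : Subgroup G) [Fintype K] {f : K → ℂ} (hf : f ∈ elemSpan K) :
    indFun K f ∈ elemSpan G := by
  refine AddSubgroup.closure_induction (p := fun f _ => indFun K f ∈ elemSpan G) ?_ ?_ ?_ ?_ hf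
  · rintro _ ⟨E, p, φ, hp, hE, hφ, rfl⟩
    rw [indFun_indFun]
    exact AddSubgroup.subset_closure ⟨_, p, _, hp, isElementary_map hp K.subtype K.subtype_injective hE,
      isCharacter_comp hφ (E.equivMapOfInjective K.subtype K.subtype_injective).symm.toMonoidHom,
      rfl⟩
  · rw [indFun_zero]; exact AddSubgroup.zero_mem _
  · intro a b _ _ ha hb
    rw [indFun_add]; exact AddSubgroup.add_mem _ ha hb
  · intro a _ ha
    rw [indFun_neg]; exact AddSubgroup.neg_mem _ ha

theorem indFun_mem_linSpan (K : Subgroup G) [Fintype K] {f : K → ℂ} (hf : f ∈ linSpan K) :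
    indFun K f ∈ linSpan G := by
  refine AddSubgroup.closure_induction (p := fun f _ => indFun K f ∈ linSpan G) ?_ ?_ ?_ ?_ hf
  · rintro _ ⟨E, p, lam, hp, hE, rfl⟩
    rw [indFun_indFun]
    exact AddSubgroup.subset_closure ⟨_, p,
      lam.comp (E.equivMapOfInjective K.subtype K.subtype_injective).symm.toMonoidHom, hp,
      isElementary_map hp K.subtype K.subtype_injective hE, rfl⟩
  · rw [indFun_zero]; exact AddSubgroup.zero_mem _
  · intro a b _ _ ha hb
    rw [indFun_add]; exact AddSubgroup.add_mem _ ha hb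
  · intro a _ ha
    rw [indFun_neg]; exact AddSubgroup.neg_mem _ ha

theorem mul_mem_elemSpan {f φ : G → ℂ} (hf : f ∈ elemSpan G) (hφ : IsCharacter G φ) :
    f * φ ∈ elemSpan G := by
  refine AddSubgroup.closure_induction (p := fun f _ => f * φ ∈ elemSpan G) ?_ ?_ ?_ ?_ hf
  · rintro _ ⟨E, p, ψ, hp, hE, hψ, rfl⟩
    rw [indFun_mul E ψ (isClassFunction_of_isCharacter hφ)]
    exact AddSubgroup.subset_closure ⟨E, p, _, hp, hE,
      isCharacter_mul hψ (isCharacter_restrict hφ E), rfl⟩
  · simp
  · intro a b _ _ ha hb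
    rw [add_mul]; exact AddSubgroup.add_mem _ ha hb
  · intro a _ ha
    rw [neg_mul]; exact AddSubgroup.neg_mem _ ha

theorem isCharacter_mem_elemSpan_of_one (h1 : (1 : G → ℂ) ∈ elemSpan G) {φ : G → ℂ}
    (hφ : IsCharacter G φ) : φ ∈ elemSpan G := by
  simpa using mul_mem_elemSpan h1 hφ

/-- An irreducible constituent of the augmentation part of `ℂ[H ⧸ E]` is induced from a proper
subgroup, hence lies in the elementary span. -/
theorem char_mem_elemSpan_of_sum_zero {H : Type u} [Group H] [Fintype H] {p : ℕ} (hp : p.Prime)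
    (hH : IsQuasiElem p H) (C : Subgroup H) [hCn : C.Normal] [IsCyclic C]
    (hCab : ∀ a ∈ C, ∀ b ∈ C, a * b = b * a) (hCcop : Nat.Coprime (Nat.card C) p)
    (P : Sylow p H) (hCP : C ⊔ (P : Subgroup H) = ⊤) (E : Subgroup H) [Fintype (H ⧸ E)]
    (hPE : (P : Subgroup H) ≤ E) {Z : Subgroup H}
    (hZ : ∀ z ∈ Z, z ∈ Subgroup.center H ∧ z ∈ E) (hZC : Z ≤ C)
    (hZmem : ∀ c ∈ C, c ∈ Subgroup.centralizer ((P : Subgroup H) : Set H) → c ∈ Z)
    (IH : ∀ (K : Subgroup H) [Fintype K], IsQuasiElem p K → Nat.card K < Nat.card H →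
      (1 : K → ℂ) ∈ elemSpan K)
    {V : Type*} [AddCommGroup V] [Module ℂ V] [FiniteDimensional ℂ V]
    (θ : Representation ℂ H V) (hθ : θ.IsIrreducible)
    (j : V →ₗ[ℂ] (H ⧸ E → Fin 1 → ℂ)) (hj : Function.Injective j)
    (hact : ∀ (g : H) v q, j (θ g v) q = j v (g⁻¹ • q)) (hsum : ∀ v, ∑ q, j v q = 0) :
    θ.character ∈ elemSpan H := by
  classical
  haveI : Fact p.Prime := ⟨hp⟩
  haveI := hθ
  obtain ⟨T, W', hW', -, -, -, htop, -, hchar⟩ := exists_induced_of_abelian_normal θ C hCab
  have hT : T ≠ ⊤ := by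
    intro hTtop
    haveI := nontrivial_of_irreducible θ
    obtain ⟨w, hw⟩ := exists_ne (0 : V)
    choose! lam hlam using htop hTtop
    have hinj := smul_left_injective ℂ hw
    have hmulC : ∀ a ∈ C, ∀ b ∈ C, lam (a * b) = lam a * lam b := fun a ha b hb => hinj (by
      show lam (a * b) • w = (lam a * lam b) • w
      rw [← hlam _ (C.mul_mem ha hb), map_mul, Module.End.mul_apply, hlam b hb, hlam a ha,
        smul_smul, mul_comm])
    have hone : lam 1 = 1 := hinj (by
      show lam 1 • w = (1 : ℂ) • w
      rw [← hlam 1 C.one_mem, map_one, Module.End.one_apply, one_smul])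
    have hconj : ∀ x : H, ∀ c ∈ C, lam (x * c * x⁻¹) = lam c := fun x c hc => hinj (by
      show lam (x * c * x⁻¹) • w = lam c • w
      rw [← hlam _ (hCn.conj_mem c hc x), map_mul, map_mul, Module.End.mul_apply,
        Module.End.mul_apply, hlam c hc, map_smul, ← Module.End.mul_apply, ← map_mul,
        mul_inv_cancel, map_one, Module.End.one_apply])
    have hf₀ : j w ≠ 0 := fun h => hw (hj (h.trans (map_zero j).symm))
    have hσ : ∀ c ∈ C, ∀ q, j w (c⁻¹ • q) = lam c • j w q := fun c hc q => by
      rw [← hact, hlam c hc, map_smul, Pi.smul_apply]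
    have hZ1 : ∀ z ∈ Z, lam z = 1 := by
      intro z hz
      refine smul_left_injective ℂ hf₀ (show lam z • j w = (1 : ℂ) • j w from ?_)
      funext q
      rw [Pi.smul_apply, Pi.smul_apply, ← hσ z (hZC hz) q, one_smul]
      refine congrArg (j w) ?_
      induction q using QuotientGroup.induction_on with | _ a =>
      rw [MulAction.Quotient.smul_mk, smul_eq_mul, QuotientGroup.eq]
      have hz' := Subgroup.mem_center_iff.1 (hZ z hz).1 a
      have he : (z⁻¹ * a)⁻¹ * a = z := by
        rw [mul_inv_rev, inv_inv, mul_assoc, ← hz', inv_mul_cancel_left]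
      rw [he]
      exact (hZ z hz).2
    have hlam1 : ∀ c ∈ C, lam c = 1 := by
      letI := IsCyclic.commGroup (α := C)
      let L : C →* ℂ :=
        { toFun := fun c => lam c
          map_one' := hone
          map_mul' := fun a b => hmulC a a.2 b b.2 }
      intro c hc
      haveI := Fintype.ofFinite (P : Subgroup H)
      let N : C := ∏ x : (P : Subgroup H),
        (⟨(x : H) * c * (x : H)⁻¹, hCn.conj_mem c hc x⟩ : C)
      have hN : (N : H) ∈ Z := by
        refine hZmem _ N.2 (Subgroup.mem_centralizer_iff.2 fun y hy => ?_)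
        let m : C →* C :=
          { toFun := fun a => ⟨y * a * y⁻¹, hCn.conj_mem a a.2 y⟩
            map_one' := Subtype.ext (by simp)
            map_mul' := fun a b => Subtype.ext (by simp [mul_assoc]) }
        have hm : m N = N := by
          rw [map_prod]
          exact Fintype.prod_equiv (Equiv.mulLeft ⟨y, hy⟩) _ _ fun x => Subtype.ext (by
            simp [m, mul_assoc])
        exact mul_inv_eq_iff_eq_mul.1 (congrArg Subtype.val hm)
      have hLN : L N = lam c ^ Nat.card (P : Subgroup H) := by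
        have h : ∀ x : (P : Subgroup H),
            L ⟨(x : H) * c * (x : H)⁻¹, hCn.conj_mem c hc x⟩ = lam c := fun x => hconj x c hc
        rw [map_prod, Finset.prod_congr rfl fun x _ => h x,
          Finset.prod_const, Finset.card_univ, Nat.card_eq_fintype_card]
      have hL1 : L N = 1 := hZ1 _ hN
      have hLC : lam c ^ Nat.card C = 1 := by
        rw [show lam c = L ⟨c, hc⟩ from rfl, ← map_pow, pow_card_eq_one', map_one]
      obtain ⟨m, hm⟩ := P.isPGroup'.exists_card_eq
      rw [hLN, hm] at hL1
      have hcop : Nat.Coprime (Nat.card C) (p ^ m) := hCcop.pow_right m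
      have h := (pow_gcd_eq_one (a := lam c) (m := Nat.card C) (n := p ^ m)).2 ⟨hLC, hL1⟩
      rwa [hcop.gcd_eq_one, pow_one] at h
    have htrans : ∀ q : H ⧸ E, ∃ c ∈ C, c⁻¹ • q = ((1 : H) : H ⧸ E) := by
      intro q
      induction q using QuotientGroup.induction_on with | _ a =>
      obtain ⟨c, hc, x, hx, rfl⟩ : ∃ c ∈ C, ∃ x ∈ (P : Subgroup H), c * x = a := by
        have h : a ∈ ((C ⊔ (P : Subgroup H) : Subgroup H) : Set H) :=
          hCP ▸ Subgroup.mem_top a
        rw [Subgroup.normal_mul] at h
        exact h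
      refine ⟨c, hc, ?_⟩
      rw [MulAction.Quotient.smul_mk, smul_eq_mul, inv_mul_cancel_left, eq_comm,
        QuotientGroup.eq, inv_one, one_mul]
      exact hPE hx
    have hconst : ∀ q, j w q = j w ((1 : H) : H ⧸ E) := by
      intro q
      obtain ⟨c, hc, hcq⟩ := htrans q
      have h := hσ c hc q
      rw [hlam1 c hc, one_smul, hcq] at h
      exact h.symm
    have hsum0 := hsum w
    apply hf₀
    rw [Finset.sum_congr rfl fun q _ => hconst q, Finset.sum_const, Finset.card_univ,
      smul_eq_zero] at hsum0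
    rcases hsum0 with h | h
    · exact absurd h Fintype.card_ne_zero
    · funext q; rw [hconst q, h]; rfl
  haveI : Fintype T := Fintype.ofFinite _
  have hlt : Nat.card T < Nat.card H :=
    lt_of_le_of_ne (Subgroup.card_le_card_group T) fun h => hT (Subgroup.eq_top_of_card_eq T h)
  have h1 := IH T (isQuasiElem_of_injective hp T.subtype T.subtype_injective hH) hlt
  rw [hchar]
  exact indFun_mem_elemSpan T (isCharacter_mem_elemSpan_of_one h1 (isCharacter_of_rep _))

/-- The trivial character of a quasi-elementary group is in the elementary span. -/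
theorem one_mem_elemSpan_of_isQuasiElem : ∀ (n : ℕ) (H : Type u) [Group H] [Fintype H],
    Nat.card H ≤ n → ∀ p : ℕ, p.Prime → IsQuasiElem p H → (1 : H → ℂ) ∈ elemSpan H := by
  intro n
  induction n with
  | zero => intro H _ _ hn; exact absurd hn (not_le.2 Nat.card_pos)
  | succ n IH =>
    intro H _ _ hn p hp hH
    classical
    haveI : Fact p.Prime := ⟨hp⟩
    obtain ⟨C, hCn, hCcyc, hCcop, k, hk⟩ := id hH
    haveI := hCn
    haveI := hCcyc
    have hCab : ∀ a ∈ C, ∀ b ∈ C, a * b = b * a := by
      intro a ha b hb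
      letI := IsCyclic.commGroup (α := C)
      exact congrArg Subtype.val (mul_comm (⟨a, ha⟩ : C) ⟨b, hb⟩)
    obtain ⟨P⟩ : Nonempty (Sylow p H) := inferInstance
    set Z : Subgroup H := C ⊓ Subgroup.centralizer ((P : Subgroup H) : Set H) with hZ
    set E : Subgroup H := (P : Subgroup H) ⊔ Z with hE
    have hCP : C ⊔ (P : Subgroup H) = ⊤ := by
      apply Subgroup.index_eq_one.1
      have h1 : (C ⊔ (P : Subgroup H)).index ∣ p ^ k := hk ▸ Subgroup.index_dvd_of_le le_sup_left
      have h2 : ¬ p ∣ (C ⊔ (P : Subgroup H)).index := fun h =>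
        P.not_dvd_index (h.trans (Subgroup.index_dvd_of_le le_sup_right))
      obtain ⟨j, -, hj⟩ := (Nat.dvd_prime_pow hp).1 h1
      rcases Nat.eq_zero_or_pos j with rfl | hj0
      · simpa using hj
      · exact absurd (hj ▸ dvd_pow_self p hj0.ne') h2
    have hZcen : Z ≤ Subgroup.center H := by
      intro z hz
      rw [Subgroup.mem_center_iff]
      intro h
      have hle : C ⊔ (P : Subgroup H) ≤ Subgroup.centralizer {z} := by
        refine sup_le (fun c hc => ?_) (fun x hx => ?_)
        · rw [Subgroup.mem_centralizer_iff]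
          rintro _ rfl
          exact hCab _ hz.1 c hc
        · rw [Subgroup.mem_centralizer_iff]
          rintro _ rfl
          exact (Subgroup.mem_centralizer_iff.1 hz.2 x hx).symm
      have hmem : h ∈ Subgroup.centralizer {z} := hle (hCP ▸ Subgroup.mem_top h)
      exact (Subgroup.mem_centralizer_iff.1 hmem z rfl).symm
    haveI : Z.Normal := ⟨fun a ha g => by
      rw [Subgroup.mem_center_iff.1 (hZcen ha) g, mul_inv_cancel_right]; exact ha⟩
    have hEelem : IsElementary p E := by
      have hZC : Z ≤ C := inf_le_left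
      haveI : IsCyclic Z := isCyclic_of_injective (Subgroup.inclusion hZC)
        (Subgroup.inclusion_injective hZC)
      obtain ⟨⟨z, hz⟩, hgen⟩ := IsCyclic.exists_generator (α := Z)
      have hzE : z ∈ E := le_sup_right (a := (P : Subgroup H)) hz
      have hzp : Subgroup.zpowers z = Z := by
        refine le_antisymm (Subgroup.zpowers_le.2 hz) fun a ha => ?_
        obtain ⟨i, hi⟩ := Subgroup.mem_zpowers_iff.1 (hgen ⟨a, ha⟩)
        exact Subgroup.mem_zpowers_iff.2 ⟨i, congrArg Subtype.val hi⟩
      refine ⟨⟨z, hzE⟩, Subgroup.mem_center_iff.2 fun a =>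
        Subtype.ext (Subgroup.mem_center_iff.1 (hZcen hz) a), ?_, ?_⟩
      · rw [Subgroup.orderOf_mk]
        exact Nat.Coprime.coprime_dvd_left (Subgroup.orderOf_dvd_natCard C hz.1) hCcop
      · have hsub : Subgroup.zpowers (⟨z, hzE⟩ : E) = Z.subgroupOf E := by
          apply Subgroup.map_injective E.subtype_injective
          rw [MonoidHom.map_zpowers, Subgroup.subgroupOf_map_subtype,
            inf_eq_left.2 (le_sup_right : Z ≤ E)]
          exact hzp
        rw [hsub]
        show ∃ j, Z.relIndex E = p ^ j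
        rw [hE, Subgroup.relIndex_sup_right]
        obtain ⟨m, hm⟩ := P.isPGroup'.exists_card_eq
        obtain ⟨j, -, hj⟩ := (Nat.dvd_prime_pow hp).1
          (hm ▸ Subgroup.relIndex_dvd_card Z (P : Subgroup H))
        exact ⟨j, hj⟩
    haveI := Fintype.ofFinite (H ⧸ E)
    let triv : Representation ℂ E (Fin 1 → ℂ) := Representation.trivial ℂ E _
    let σ := indRep triv
    have hσ : ∀ (g : H) (f : H ⧸ E → Fin 1 → ℂ) (q : H ⧸ E), σ g f q = f (g⁻¹ • q) :=
      fun _ _ _ => rfl
    have htriv : triv.character = fun _ => (1 : ℂ) := by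
      funext e
      simp [triv, Representation.character]
    let sumMap : (H ⧸ E → Fin 1 → ℂ) →ₗ[ℂ] (Fin 1 → ℂ) := ∑ q, LinearMap.proj q
    have hsum : ∀ f, sumMap f = ∑ q, f q := fun f => by simp [sumMap]
    let constMap : (Fin 1 → ℂ) →ₗ[ℂ] (H ⧸ E → Fin 1 → ℂ) := LinearMap.pi fun _ => LinearMap.id
    let A : Subrepresentation σ := ⟨LinearMap.range constMap, by
      rintro g _ ⟨c, rfl⟩
      exact ⟨c, rfl⟩⟩
    let B : Subrepresentation σ := ⟨LinearMap.ker sumMap, by
      intro g f hf
      rw [LinearMap.mem_ker, hsum] at hf ⊢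
      rw [← hf]
      exact Fintype.sum_equiv (MulAction.toPerm g⁻¹) _ _ fun q => hσ g f q⟩
    have hcard : (Fintype.card (H ⧸ E) : ℂ) ≠ 0 := Nat.cast_ne_zero.2 Fintype.card_ne_zero
    have hd : Disjoint A.toSubmodule B.toSubmodule := by
      rw [Submodule.disjoint_def]
      rintro _ ⟨c, rfl⟩ hB
      rw [LinearMap.mem_ker, hsum] at hB
      funext q i
      have h0 := congrFun hB i
      simp [constMap, hcard] at h0 ⊢
      exact h0
    have hsup : A.toSubmodule ⊔ B.toSubmodule = (⊤ : Subrepresentation σ).toSubmodule := by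
      refine le_antisymm le_top ?_
      intro f _
      refine Submodule.mem_sup.2 ⟨constMap ((Fintype.card (H ⧸ E) : ℂ)⁻¹ • sumMap f), ⟨_, rfl⟩,
        f - constMap ((Fintype.card (H ⧸ E) : ℂ)⁻¹ • sumMap f), ?_, add_sub_cancel _ f⟩
      show sumMap _ = 0
      funext i
      simp [constMap, hsum, map_sub, Finset.sum_apply, hcard]
    have hA : A.toRepresentation.character = 1 := by
      funext g
      have h : A.toRepresentation g = 1 := by
        apply LinearMap.ext
        rintro ⟨_, c, rfl⟩
        rfl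
      rw [Representation.character, h, LinearMap.trace_one, Pi.one_apply]
      have hinj : Function.Injective constMap := fun a b hab => congrFun hab ((1 : H) : H ⧸ E)
      rw [show Module.finrank ℂ A.toSubmodule = 1 from
        (LinearMap.finrank_range_of_inj hinj).trans (Module.finrank_fin_fun ℂ), Nat.cast_one]
    have hB : B.toRepresentation.character ∈ elemSpan H := by
      refine char_mem_of_irreducible_subreps B.toRepresentation (elemSpan H).toAddSubmonoid
        fun W hW => ?_
      exact char_mem_elemSpan_of_sum_zero hp hH C hCab hCcop P hCP E le_sup_left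
        (Z := Z) (fun z hz => ⟨hZcen hz, le_sup_right (a := (P : Subgroup H)) hz⟩)
        (inf_le_left) (fun c hc h => ⟨hc, h⟩)
        (fun K _ hK hlt => IH K (by omega) p hp hK)
        (V := ↥W.toSubmodule) W.toRepresentation hW
        (B.toSubmodule.subtype.comp W.toSubmodule.subtype)
        (B.toSubmodule.injective_subtype.comp W.toSubmodule.injective_subtype)
        (fun _ _ _ => rfl) (fun w => (hsum _).symm.trans (w : B.toSubmodule).2)
    have htopchar : (⊤ : Subrepresentation σ).toRepresentation.character = σ.character := by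
      funext g
      simp only [Representation.character]
      exact (LinearMap.trace_conj' ((⊤ : Subrepresentation σ).toRepresentation g)
        (Submodule.topEquiv (R := ℂ) (M := H ⧸ E → Fin 1 → ℂ))).symm
    have hdec := char_subrep_sup σ hd hsup
    rw [htopchar, hA, char_indRep, htriv] at hdec
    have hgen : indFun E (fun _ => (1 : ℂ)) ∈ elemSpan H :=
      AddSubgroup.subset_closure ⟨E, p, fun _ => 1, hp, hEelem,
        htriv ▸ isCharacter_of_rep triv, rfl⟩
    rw [hdec] at hgen
    exact (AddSubgroup.add_mem_cancel_right _ hB).1 hgen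

theorem one_mem_elemSpan : (1 : G → ℂ) ∈ elemSpan G := by
  have h : permSpan G ≤ elemSpan G := by
    refine (AddSubgroup.closure_le _).2 ?_
    rintro _ ⟨H, p, hp, hH, rfl⟩
    haveI : Fintype H := Fintype.ofFinite _
    exact indFun_mem_elemSpan H (one_mem_elemSpan_of_isQuasiElem (Nat.card H) H le_rfl p hp hH)
  exact h one_mem_permSpan

theorem isCharacter_mem_linSpan_of_isElementary {p : ℕ} (hp : p.Prime) (hE : IsElementary p G)
    {φ : G → ℂ} (hφ : IsCharacter G φ) : φ ∈ linSpan G := by
  haveI := isNilpotent_of_isElementary hp hE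
  obtain ⟨n, ρ, rfl⟩ := hφ
  refine char_mem_of_irreducible_subreps ρ (linSpan G).toAddSubmonoid fun W hW => ?_
  haveI := hW
  obtain ⟨T, lam, hT⟩ := exists_monomial_of_isNilpotent (Nat.card G) G le_rfl (V := ↥W.toSubmodule) W.toRepresentation
  rw [hT]
  exact AddSubgroup.subset_closure
    ⟨T, p, lam, hp, isElementary_of_injective hp T.subtype T.subtype_injective hE, rfl⟩

/-- **Brauer's induction theorem.** -/
theorem isCharacter_mem_linSpan {φ : G → ℂ} (hφ : IsCharacter G φ) : φ ∈ linSpan G := by
  have h : elemSpan G ≤ linSpan G := by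
    refine (AddSubgroup.closure_le _).2 ?_
    rintro _ ⟨E, p, ψ, hp, hE, hψ, rfl⟩
    haveI : Fintype E := Fintype.ofFinite _
    exact indFun_mem_linSpan E (isCharacter_mem_linSpan_of_isElementary hp hE hψ)
  exact h (isCharacter_mem_elemSpan_of_one one_mem_elemSpan hφ)

/-- **Brauer's characterisation of characters.** -/
theorem isGeneralizedCharacter_of_elementary {θ : G → ℂ} (hθ : IsClassFunction G θ)
    (hE : ∀ (E : Subgroup G) (p : ℕ), p.Prime → IsElementary p E →
      IsGeneralizedCharacter E (fun e : E => θ e)) : IsGeneralizedCharacter G θ := by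
  have h : ∀ f ∈ elemSpan G, IsGeneralizedCharacter G (f * θ) := by
    intro f hf
    refine AddSubgroup.closure_induction (p := fun f _ => IsGeneralizedCharacter G (f * θ))
      ?_ ?_ ?_ ?_ hf
    · rintro _ ⟨E, p, ψ, hp, hEl, hψ, rfl⟩
      rw [indFun_mul E ψ hθ]
      obtain ⟨a, b, ha, hb, hab⟩ := hE E p hp hEl
      refine isGeneralizedCharacter_indFun E ⟨ψ * a, ψ * b, isCharacter_mul hψ ha,
        isCharacter_mul hψ hb, ?_⟩
      rw [← mul_sub, ← hab]
      rfl
    · exact ⟨0, 0, isCharacter_zero, isCharacter_zero, by simp⟩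
    · rintro x y _ _ ⟨a, b, ha, hb, hab⟩ ⟨c, d, hc, hd, hcd⟩
      exact ⟨a + c, b + d, isCharacter_add ha hc, isCharacter_add hb hd, by
        rw [add_mul, hab, hcd]; abel⟩
    · rintro x _ ⟨a, b, ha, hb, hab⟩
      exact ⟨b, a, hb, ha, by rw [neg_mul, hab, neg_sub]⟩
  simpa using h 1 one_mem_elemSpan

end Cfsg.Agent.CharInd
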