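import Cfsg.Agent.Lib.CharCore.Complete
import Mathlib.GroupTheory.GroupAction.ConjAct

/-!
# Sums of centraliser orders over classes
-/

set_option autoImplicit false

open scoped ComplexConjugate
open Cfsg

namespace Cfsg.Agent.CharInd

universe u

variable {G : Type u} [Group G] [Fintype G]

theorem sum_card_centralizer_eq [DecidableEq (ConjClasses G)] (P : ConjClasses G → Prop)
    [DecidablePred P] :
    (∑ g : G, if P (ConjClasses.mk g) then
        (Nat.card (Subgroup.centralizer ({g} : Set G)) : ℂ) else 0)
      = (Nat.card G : ℂ) * (Nat.card {C : ConjClasses G // P C} : ℂ) := by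
  classical
  haveI := Fintype.ofFinite (ConjClasses G)
  rw [Nat.card_eq_fintype_card (α := {C : ConjClasses G // P C}), Fintype.card_subtype,
    Finset.natCast_card_filter, Finset.mul_sum,
    ← Finset.sum_fiberwise_of_maps_to (t := (Finset.univ : Finset (ConjClasses G)))
      (g := fun x : G => ConjClasses.mk x) (fun x _ => Finset.mem_univ _)]
  refine Finset.sum_congr rfl fun C _ => ?_
  by_cases hP : P C
  · rw [if_pos hP, mul_one]
    obtain ⟨a, rfl⟩ := ConjClasses.exists_rep C
    have hcst : ∀ x ∈ (Finset.univ.filter fun x => ConjClasses.mk x = ConjClasses.mk a),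
        (if P (ConjClasses.mk x) then (Nat.card (Subgroup.centralizer ({x} : Set G)) : ℂ) else 0)
          = (Nat.card (Subgroup.centralizer ({a} : Set G)) : ℂ) := by
      intro x hx
      rw [(Finset.mem_filter.1 hx).2, if_pos hP]
      obtain ⟨c, hc⟩ := isConj_iff.1
        (ConjClasses.mk_eq_mk_iff_isConj.1 (Finset.mem_filter.1 hx).2)
      norm_cast
      refine Nat.card_congr ((MulAut.conj c).toEquiv.subtypeEquiv fun y => ?_)
      simp only [Subgroup.mem_centralizer_singleton_iff, MulEquiv.toEquiv_eq_coe,
        MulEquiv.coe_toEquiv, MulAut.conj_apply, ← hc]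
      constructor
      · intro h
        calc c * y * c⁻¹ * (c * x * c⁻¹) = c * (y * x) * c⁻¹ := by group
          _ = c * (x * y) * c⁻¹ := by rw [h]
          _ = c * x * c⁻¹ * (c * y * c⁻¹) := by group
      · intro h
        calc y * x = c⁻¹ * (c * y * c⁻¹ * (c * x * c⁻¹)) * c := by group
          _ = c⁻¹ * (c * x * c⁻¹ * (c * y * c⁻¹)) * c := by rw [h]
          _ = x * y := by group
    rw [Finset.sum_congr rfl hcst, Finset.sum_const, nsmul_eq_mul, ← Nat.cast_mul]
    congr 1
    have h1 : (Finset.univ.filter fun x => ConjClasses.mk x = ConjClasses.mk a).card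
        = (Subgroup.centralizer ({a} : Set G)).index := by
      rw [Subgroup.centralizer_eq_comap_stabilizer]
      refine Eq.trans ?_
        (Subgroup.index_comap_of_surjective _ (ConjAct.toConjAct (G := G)).surjective).symm
      rw [MulAction.index_stabilizer, ConjAct.orbit_eq_carrier_conjClasses,
        Set.ncard_eq_toFinset_card']
      congr 1
      ext x
      simp [ConjClasses.mem_carrier_iff_mk_eq]
    rw [h1, Subgroup.index_mul_card]
  · rw [if_neg hP, mul_zero]
    refine Finset.sum_eq_zero fun x hx => ?_
    rw [(Finset.mem_filter.1 hx).2, if_neg hP]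

/-- Counting irreducible characters fixed by a permutation of the characters given on values. -/
theorem card_fixed_irr (f : IrrCharacter G → IrrCharacter G) [DecidableEq (IrrCharacter G)] :
    (Nat.card {χ : IrrCharacter G // f χ = χ} : ℂ)
      = (Nat.card G : ℂ)⁻¹ * ∑ g : G,
          ∑ χ : IrrCharacter G, (f χ : G → ℂ) g * conj ((χ : G → ℂ) g) := by
  rw [Finset.sum_comm, Finset.mul_sum, Nat.card_eq_fintype_card, Fintype.card_subtype,
    Finset.natCast_card_filter]
  refine Finset.sum_congr rfl fun χ _ => ?_
  exact (CharCore.classInner_irr (f χ) χ).symm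

end Cfsg.Agent.CharInd
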