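import Cfsg.Agent.Lib.CharInd.Monomial
import Cfsg.Agent.Lib.CharCore.Complete
import Mathlib.LinearAlgebra.Matrix.Charpoly.Coeff
import Mathlib.LinearAlgebra.Matrix.ToLin
import Mathlib.LinearAlgebra.Matrix.NonsingularInverse
import Mathlib.Analysis.Complex.Polynomial.Basic

/-!
# Invariant bilinear forms of irreducible matrix representations and the Frobenius-Schur indicator
-/

set_option autoImplicit false

open scoped ComplexConjugate
open Cfsg Matrix

namespace Cfsg.Agent.CharInd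

universe u

variable {G : Type u} [Group G] [Fintype G] {n : ℕ}

omit [Fintype G] in
theorem toMatrix'_rep_mul (ρ : Representation ℂ G (Fin n → ℂ)) (g h : G) :
    LinearMap.toMatrix' (ρ (g * h)) = LinearMap.toMatrix' (ρ g) * LinearMap.toMatrix' (ρ h) := by
  rw [map_mul, Module.End.mul_eq_comp, LinearMap.toMatrix'_comp]

omit [Fintype G] in
theorem exists_smul_of_commute_irreducible (ρ : Representation ℂ G (Fin n → ℂ))
    [ρ.IsIrreducible] (X : Matrix (Fin n) (Fin n) ℂ)
    (hX : ∀ g, LinearMap.toMatrix' (ρ g) * X = X * LinearMap.toMatrix' (ρ g)) :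
    ∃ c : ℂ, X = c • 1 := by
  let T : Representation.IntertwiningMap ρ ρ := ⟨Matrix.toLin' X, fun g => by
    have h := congrArg Matrix.toLin' (hX g).symm
    simpa [Matrix.toLin'_mul] using h⟩
  obtain ⟨c, hc⟩ :=
    (Representation.IsIrreducible.algebraMap_intertwiningMap_bijective_of_isAlgClosed (k := ℂ)
      (ρ := ρ)).2 T
  refine ⟨c, ?_⟩
  have h := congrArg Representation.IntertwiningMap.toLinearMap hc.symm
  have h' : Matrix.toLin' X = c • LinearMap.id := by
    simpa [T, Representation.IntertwiningMap.toLinearMap_smul] using! h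
  have h'' := congrArg LinearMap.toMatrix' h'
  simpa using h''

omit [Fintype G] in
/-- A non-zero matrix fixed by `X ↦ A X Aᵀ` is invertible. -/
theorem isUnit_det_of_invariant (ρ : Representation ℂ G (Fin n → ℂ)) [ρ.IsIrreducible]
    {W : Matrix (Fin n) (Fin n) ℂ} (hW0 : W ≠ 0)
    (hW : ∀ g, LinearMap.toMatrix' (ρ g) * W * (LinearMap.toMatrix' (ρ g))ᵀ = W) :
    IsUnit W.det := by
  have hinv : ∀ g, (LinearMap.toMatrix' (ρ g⁻¹))ᵀ * (LinearMap.toMatrix' (ρ g))ᵀ = 1 := by
    intro g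
    rw [← Matrix.transpose_mul, ← toMatrix'_rep_mul, mul_inv_cancel, map_one,
      Module.End.one_eq_id, LinearMap.toMatrix'_id, Matrix.transpose_one]
  have htop := (submodule_bot_or_top ρ (LinearMap.range (Matrix.toLin' W)) (by
    rintro g _ ⟨v, rfl⟩
    refine ⟨(LinearMap.toMatrix' (ρ g⁻¹))ᵀ *ᵥ v, ?_⟩
    have h : W * (LinearMap.toMatrix' (ρ g⁻¹))ᵀ = LinearMap.toMatrix' (ρ g) * W := by
      conv_lhs => rw [← hW g]
      rw [Matrix.mul_assoc, Matrix.mul_assoc, ← Matrix.transpose_mul, ← toMatrix'_rep_mul,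
        inv_mul_cancel, map_one, Module.End.one_eq_id, LinearMap.toMatrix'_id,
        Matrix.transpose_one, Matrix.mul_one]
    rw [Matrix.toLin'_apply, Matrix.mulVec_mulVec, h, ← Matrix.mulVec_mulVec, Matrix.toLin'_apply,
      LinearMap.toMatrix'_mulVec])).resolve_left (fun h => hW0 (by
    rw [LinearMap.range_eq_bot] at h
    exact Matrix.toLin'.injective (h.trans (map_zero _).symm)))
  rw [← Matrix.isUnit_iff_isUnit_det, ← Matrix.mulVec_injective_iff_isUnit]
  have hs : Function.Surjective (Matrix.toLin' W) := LinearMap.range_eq_top.1 htop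
  exact LinearMap.injective_iff_surjective.2 hs

omit [Fintype G] in
theorem exists_smul_of_invariant (ρ : Representation ℂ G (Fin n → ℂ)) [ρ.IsIrreducible]
    {W X : Matrix (Fin n) (Fin n) ℂ} (hW0 : W ≠ 0)
    (hW : ∀ g, LinearMap.toMatrix' (ρ g) * W * (LinearMap.toMatrix' (ρ g))ᵀ = W)
    (hX : ∀ g, LinearMap.toMatrix' (ρ g) * X * (LinearMap.toMatrix' (ρ g))ᵀ = X) :
    ∃ c : ℂ, X = c • W := by
  have hu := isUnit_det_of_invariant ρ hW0 hW
  have hcomm : ∀ g, LinearMap.toMatrix' (ρ g) * (X * W⁻¹) = X * W⁻¹ * LinearMap.toMatrix' (ρ g) := by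
    intro g
    set A := LinearMap.toMatrix' (ρ g) with hA
    have h1 : W⁻¹ * (A * W * Aᵀ) = 1 := by rw [hA, hW g, Matrix.nonsing_inv_mul W hu]
    have h2 : Aᵀ * (W⁻¹ * A * W) = 1 := mul_eq_one_comm.1 (by rw [← h1]; simp [Matrix.mul_assoc])
    have h3 : Aᵀ * (W⁻¹ * A) = W⁻¹ := by
      calc Aᵀ * (W⁻¹ * A) = Aᵀ * (W⁻¹ * A * W) * W⁻¹ := by
            rw [Matrix.mul_assoc, Matrix.mul_assoc (W⁻¹ * A), Matrix.mul_nonsing_inv W hu,
              Matrix.mul_one]
        _ = W⁻¹ := by rw [h2, Matrix.one_mul]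
    calc A * (X * W⁻¹) = A * (X * (Aᵀ * (W⁻¹ * A))) := by rw [h3]
      _ = A * X * Aᵀ * (W⁻¹ * A) := by simp [Matrix.mul_assoc]
      _ = X * (W⁻¹ * A) := by rw [hA, hX g]
      _ = X * W⁻¹ * A := (Matrix.mul_assoc _ _ _).symm
  obtain ⟨c, hc⟩ := exists_smul_of_commute_irreducible ρ _ hcomm
  refine ⟨c, ?_⟩
  calc X = X * W⁻¹ * W := by rw [Matrix.mul_assoc, Matrix.nonsing_inv_mul W hu, Matrix.mul_one]
    _ = c • W := by rw [hc, Matrix.smul_mul, Matrix.one_mul]

/-- For a real-valued irreducible character the Frobenius-Schur indicator is the symmetry sign of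
the invariant bilinear form. -/
theorem exists_invariant_form_indicator (ρ : Representation ℂ G (Fin n → ℂ)) [ρ.IsIrreducible]
    (hreal : ∀ g, conj (ρ.character g) = ρ.character g) :
    ∃ (W : Matrix (Fin n) (Fin n) ℂ) (ε : ℂ), W ≠ 0 ∧
      (∀ g, LinearMap.toMatrix' (ρ g) * W * (LinearMap.toMatrix' (ρ g))ᵀ = W) ∧
      IsUnit W.det ∧ (ε = 1 ∨ ε = -1) ∧ Wᵀ = ε • W ∧
      (Nat.card G : ℂ)⁻¹ * ∑ s : G, ρ.character (s * s) = ε := by
  classical
  set A : G → Matrix (Fin n) (Fin n) ℂ := fun g => LinearMap.toMatrix' (ρ g) with hA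
  let M : Fin n → Fin n → Matrix (Fin n) (Fin n) ℂ := fun k l =>
    Matrix.of fun i j => (Nat.card G : ℂ)⁻¹ * ∑ g : G, A g i k * A g j l
  have hχ : ∀ g, ρ.character g = ∑ i, A g i i := by
    intro g
    rw [Representation.character, LinearMap.trace_eq_matrix_trace ℂ (Pi.basisFun ℂ (Fin n)),
      LinearMap.toMatrix_eq_toMatrix']
    rfl
  have hsq : (Nat.card G : ℂ)⁻¹ * ∑ g : G, ρ.character g * ρ.character g = 1 := by
    rw [← CharCore.classInner_irr_self
      (⟨ρ.character, CharCore.isIrrCharacter_character ρ⟩ : IrrCharacter G), Cfsg.classInner]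
    exact congrArg _ (Finset.sum_congr rfl fun g _ => congrArg _ (hreal g).symm)
  have hdiag : ∑ i, ∑ j, M i j i j = 1 := by
    rw [← hsq]
    simp only [M, Matrix.of_apply, ← Finset.mul_sum, hχ, Finset.sum_mul, Finset.mul_sum]
    rw [Finset.sum_comm]
    conv_rhs => rw [Finset.sum_comm]; arg 2; intro i; rw [Finset.sum_comm]
  have hMinv : ∀ k l g, A g * M k l * (A g)ᵀ = M k l := by
    intro k l g
    ext i j
    simp only [M, Matrix.mul_apply, Matrix.transpose_apply, Matrix.of_apply, Finset.mul_sum,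
      Finset.sum_mul]
    rw [Finset.sum_congr rfl fun x _ => Finset.sum_comm, Finset.sum_comm]
    refine Fintype.sum_equiv (Equiv.mulLeft g) _ _ fun h => ?_
    simp only [Equiv.coe_mulLeft, hA, toMatrix'_rep_mul, Matrix.mul_apply, Finset.sum_mul,
      Finset.mul_sum]
    refine Finset.sum_congr rfl fun a _ => Finset.sum_congr rfl fun b _ => by ring
  obtain ⟨k₀, l₀, hW0⟩ : ∃ k l, M k l ≠ 0 := by
    by_contra h
    push Not at h
    simp [h] at hdiag
  set W := M k₀ l₀ with hW
  have hu := isUnit_det_of_invariant ρ hW0 (hMinv k₀ l₀)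
  choose U hU using fun k l => exists_smul_of_invariant ρ hW0 (hMinv k₀ l₀) (hMinv k l)
  have hMT : ∀ k l, (M k l)ᵀ = M l k := by
    intro k l
    ext i j
    simp only [M, Matrix.transpose_apply, Matrix.of_apply, mul_comm]
  have hWTinv : ∀ g, A g * Wᵀ * (A g)ᵀ = Wᵀ := by rw [hW, hMT]; exact hMinv l₀ k₀
  obtain ⟨ε, hε⟩ := exists_smul_of_invariant ρ hW0 (hMinv k₀ l₀) hWTinv
  have hsmul : Function.Injective fun c : ℂ => c • W := smul_left_injective ℂ hW0
  have hε2 : ε * ε = 1 := hsmul (by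
    show (ε * ε) • W = (1 : ℂ) • W
    rw [one_smul]
    conv_rhs => rw [← Matrix.transpose_transpose W, hε, Matrix.transpose_smul, hε, smul_smul])
  refine ⟨W, ε, hW0, hMinv k₀ l₀, hu, mul_self_eq_one_iff.1 hε2, hε, ?_⟩
  have hUT : ∀ k l, U l k = U k l * ε := fun k l => hsmul (by
    show U l k • W = (U k l * ε) • W
    rw [← hU l k, ← hMT, hU k l, Matrix.transpose_smul, hε, smul_smul])
  calc (Nat.card G : ℂ)⁻¹ * ∑ s : G, ρ.character (s * s)
      = ∑ i, ∑ j, M j i i j := by
        simp only [M, Matrix.of_apply, hχ, hA, toMatrix'_rep_mul, Matrix.mul_apply, Finset.mul_sum]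
        rw [Finset.sum_comm]
        exact Finset.sum_congr rfl fun a _ => Finset.sum_comm
    _ = ε * ∑ i, ∑ j, M i j i j := by
        rw [Finset.mul_sum]
        refine Finset.sum_congr rfl fun i _ => ?_
        rw [Finset.mul_sum]
        refine Finset.sum_congr rfl fun j _ => ?_
        rw [hU j i, hU i j, hUT i j]
        simp only [Matrix.smul_apply, smul_eq_mul]
        ring
    _ = ε := by rw [hdiag, mul_one]

/-- A non-singular skew-symmetric matrix has even size. -/
theorem even_of_skew {W : Matrix (Fin n) (Fin n) ℂ} (hu : IsUnit W.det)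
    (h : Wᵀ = (-1 : ℂ) • W) : Even n := by
  by_contra hodd
  rw [Nat.not_even_iff_odd] at hodd
  have h' := congrArg Matrix.det h
  rw [Matrix.det_transpose, Matrix.det_smul, Fintype.card_fin, hodd.neg_one_pow] at h'
  apply hu.ne_zero
  linear_combination h' / 2

end Cfsg.Agent.CharInd
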