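import Cfsg.Prelude.Def_Characters
import Mathlib.GroupTheory.SpecificGroups.Cyclic
import Mathlib.GroupTheory.Nilpotent
import Mathlib.GroupTheory.PGroup

/-!
# Elementary and quasi-elementary groups
-/

set_option autoImplicit false

open Cfsg

namespace Cfsg.Agent.CharInd

universe u

/-- A `p`-quasi-elementary group: cyclic normal `p'`-subgroup of `p`-power index. -/
def IsQuasiElem (p : ℕ) (H : Type u) [Group H] : Prop :=
  ∃ C : Subgroup H, C.Normal ∧ IsCyclic C ∧ Nat.Coprime (Nat.card C) p ∧
    ∃ k : ℕ, C.index = p ^ k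

variable {p : ℕ} {H K : Type u} [Group H] [Group K]

theorem index_comap_eq_prime_pow [Finite H] (hp : p.Prime) (C : Subgroup H) [C.Normal]
    (f : K →* H) {k : ℕ} (hk : C.index = p ^ k) : ∃ j : ℕ, (C.comap f).index = p ^ j := by
  rw [Subgroup.index_comap]
  have h : C.relIndex f.range ∣ p ^ k := hk ▸ Subgroup.relIndex_dvd_index_of_normal C f.range
  obtain ⟨j, -, hj⟩ := (Nat.dvd_prime_pow hp).1 h
  exact ⟨j, hj⟩

theorem isQuasiElem_of_injective [Finite H] (hp : p.Prime) (f : K →* H)
    (hf : Function.Injective f) (h : IsQuasiElem p H) : IsQuasiElem p K := by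
  obtain ⟨C, hC, hcyc, hcop, k, hk⟩ := h
  haveI := hC
  let g : C.comap f →* C := (f.comp (C.comap f).subtype).codRestrict C fun x => x.2
  have hg : Function.Injective g := fun a b hab => Subtype.ext (hf (congrArg Subtype.val hab))
  refine ⟨C.comap f, inferInstance, isCyclic_of_injective g hg, ?_,
    index_comap_eq_prime_pow hp C f hk⟩
  exact Nat.Coprime.coprime_dvd_left (Subgroup.card_dvd_of_injective g hg) hcop

theorem isElementary_of_injective [Finite H] (hp : p.Prime) (f : K →* H)
    (hf : Function.Injective f) (h : IsElementary p H) : IsElementary p K := by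
  obtain ⟨x, hxc, hcop, k, hk⟩ := h
  set C := Subgroup.zpowers x with hC
  have hcen : ∀ a ∈ C, a ∈ Subgroup.center H := fun a ha => Subgroup.zpowers_le.2 hxc ha
  haveI : C.Normal := ⟨fun a ha g => by
    rw [Subgroup.mem_center_iff.1 (hcen a ha) g, mul_inv_cancel_right]; exact ha⟩
  let g : C.comap f →* C := (f.comp (C.comap f).subtype).codRestrict C fun x => x.2
  have hg : Function.Injective g := fun a b hab => Subtype.ext (hf (congrArg Subtype.val hab))
  haveI := isCyclic_of_injective g hg
  obtain ⟨⟨y, hy⟩, hgen⟩ := IsCyclic.exists_generator (α := C.comap f)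
  have hzy : Subgroup.zpowers y = C.comap f := by
    refine le_antisymm (Subgroup.zpowers_le.2 hy) fun a ha => ?_
    obtain ⟨i, hi⟩ := Subgroup.mem_zpowers_iff.1 (hgen ⟨a, ha⟩)
    exact Subgroup.mem_zpowers_iff.2 ⟨i, congrArg Subtype.val hi⟩
  refine ⟨y, Subgroup.mem_center_iff.2 fun a => hf ?_, ?_, ?_⟩
  · rw [map_mul, map_mul, Subgroup.mem_center_iff.1 (hcen (f y) hy) (f a)]
  · refine Nat.Coprime.coprime_dvd_left ?_ hcop
    rw [← Nat.card_zpowers y, ← Nat.card_zpowers x, hzy]
    exact Subgroup.card_dvd_of_injective g hg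
  · rw [hzy]
    exact index_comap_eq_prime_pow hp C f hk

theorem isElementary_map [Finite K] (hp : p.Prime) {L : Subgroup K} (f : K →* H)
    (hf : Function.Injective f) (h : IsElementary p L) : IsElementary p (L.map f) :=
  isElementary_of_injective hp (L.equivMapOfInjective f hf).symm.toMonoidHom
    (L.equivMapOfInjective f hf).symm.injective h

theorem isNilpotent_of_isElementary [Finite H] (hp : p.Prime) (h : IsElementary p H) :
    Group.IsNilpotent H := by
  obtain ⟨x, hxc, -, k, hk⟩ := h
  haveI : Fact p.Prime := ⟨hp⟩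
  apply Group.of_quotient_center_nilpotent
  have hdvd : (Subgroup.center H).index ∣ p ^ k :=
    hk ▸ Subgroup.index_dvd_of_le (Subgroup.zpowers_le.2 hxc)
  obtain ⟨j, -, hj⟩ := (Nat.dvd_prime_pow hp).1 hdvd
  have hP : IsPGroup p (H ⧸ Subgroup.center H) :=
    IsPGroup.of_card (n := j) (by rw [← hj]; rfl)
  exact hP.isNilpotent

end Cfsg.Agent.CharInd
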