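import Mathlib.GroupTheory.RegularWreathProduct
import Cfsg.Agent.Lib.CharClifford.Clifford
import Cfsg.Agent.Lib.CharClifford.Central
import Cfsg.Agent.Lib.CharCore.Linear
import Cfsg.Agent.Lib.CharCore.CliffordDegree
import Cfsg.Agent.Lib.Solvable.Schmidt

/-!
# Every solvable group embeds in an M-group
-/

set_option autoImplicit false

open scoped ComplexConjugate
open Cfsg Cfsg.Agent.CharCore

namespace Cfsg.Agent.CharInd

universe u v

/-- Every irreducible character is induced from a linear character. -/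
def IsMonomialGroup (M : Type u) [Group M] [Fintype M] : Prop :=
  ∀ χ : M → ℂ, IsIrrCharacter M χ →
    ∃ (H : Subgroup M) (lam : ↥H →* ℂˣ), χ = indFun H fun h => (lam h : ℂ)

section Pi

variable {ι : Type v} [Fintype ι] {M : Type u} [Group M] [Fintype M]

theorem isCharacter_prod_eval (η : ι → M → ℂ) (hη : ∀ i, IsCharacter M (η i)) :
    IsCharacter (ι → M) fun f => ∏ i, η i (f i) := by
  classical
  have h : ∀ s : Finset ι, IsCharacter (ι → M) fun f => ∏ i ∈ s, η i (f i) := by
    intro s
    induction s using Finset.induction_on with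
    | empty =>
      simp only [Finset.prod_empty]
      exact CharCore.isCharacter_one
    | insert a s ha ih =>
      have h1 := CharCore.isCharacter_mul
        (CharCore.isCharacter_comp (hη a) (Pi.evalMonoidHom (fun _ : ι => M) a)) ih
      convert h1 using 1
      funext f
      rw [Finset.prod_insert ha]
      rfl
  exact h _

theorem classInner_prod [DecidableEq ι] (η η' : ι → M → ℂ) :
    classInner (fun f : ι → M => ∏ i, η i (f i)) (fun f => ∏ i, η' i (f i))
      = ∏ i, classInner (η i) (η' i) := by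
  classical
  simp only [classInner, map_prod, ← Finset.prod_mul_distrib]
  rw [Finset.prod_mul_distrib, Fintype.prod_sum]
  congr 1
  rw [Finset.prod_const, Finset.card_univ, ← Nat.card_eq_fintype_card, Nat.card_fun, inv_pow,
    Nat.cast_pow]

/-- Irreducible characters of a power are products. -/
theorem exists_eq_prod [DecidableEq ι] {θ : (ι → M) → ℂ}
    (hθ : IsIrrCharacter (ι → M) θ) :
    ∃ η : ι → IrrCharacter M, θ = fun f => ∏ i, (η i : M → ℂ) (f i) := by
  classical
  let P : (ι → IrrCharacter M) → IrrCharacter (ι → M) := fun η =>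
    ⟨fun f => ∏ i, (η i : M → ℂ) (f i), isIrrCharacter_iff.mpr
      ⟨isCharacter_prod_eval _ fun i => irr_isCharacter (η i), by
        rw [classInner_prod, Finset.prod_congr rfl fun i _ => classInner_irr_self (η i),
          Finset.prod_const_one]⟩⟩
  have hP : Function.Injective P := by
    intro a b hab
    by_contra hne
    obtain ⟨i, hi⟩ := Function.ne_iff.mp hne
    have h := classInner_irr_self (P a)
    conv_lhs at h => arg 2; rw [hab]
    simp only [P] at h
    rw [classInner_prod, Finset.prod_eq_zero (Finset.mem_univ i) (classInner_irr_of_ne hi)] at h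
    exact zero_ne_one h
  by_contra hno
  push Not at hno
  have hθ' : (⟨θ, hθ⟩ : IrrCharacter (ι → M)) ∉ Finset.univ.image P := by
    simp only [Finset.mem_image, Finset.mem_univ, true_and, not_exists]
    exact fun η h => hno η (congrArg Subtype.val h).symm
  choose d hd0 _ hd using fun χ : IrrCharacter (ι → M) => CharClifford.exists_degree_dvd_card χ.2
  choose e _ _ he using fun χ : IrrCharacter M => CharClifford.exists_degree_dvd_card χ.2
  have h1 : ∑ χ, d χ ^ 2 = Nat.card (ι → M) := by
    have h := sum_degree_sq (G := ι → M)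
    simp only [hd] at h
    exact_mod_cast h
  have h2 : ∑ χ ∈ Finset.univ.image P, d χ ^ 2 = Nat.card (ι → M) := by
    have h := sum_degree_sq (G := M)
    simp only [he] at h
    have hM : ∑ χ, e χ ^ 2 = Nat.card M := by exact_mod_cast h
    have hdP : ∀ η, d (P η) = ∏ i, e (η i) := fun η => by
      have h := hd (P η)
      simp only [P, Pi.one_apply, he, ← Nat.cast_prod] at h
      exact_mod_cast h.symm
    rw [Finset.sum_image fun a _ b _ h => hP h, Nat.card_fun]
    simp only [hdP, ← Finset.prod_pow]
    rw [← Fintype.prod_sum (fun (_ : ι) χ => e χ ^ 2), Finset.prod_congr rfl fun _ _ => hM,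
      Finset.prod_const, Finset.card_univ, Nat.card_eq_fintype_card, Nat.card_eq_fintype_card]
  have h3 : ∑ χ ∈ Finset.univ.image P, d χ ^ 2 + d ⟨θ, hθ⟩ ^ 2 ≤ ∑ χ, d χ ^ 2 := by
    rw [add_comm, ← Finset.sum_insert (f := fun χ => d χ ^ 2) hθ']
    exact Finset.sum_le_sum_of_subset (Finset.subset_univ _)
  have := pow_pos (hd0 ⟨θ, hθ⟩) 2
  omega

/-- Induction from a product subgroup. -/
theorem prod_indFun [DecidableEq ι] (H : ι → Subgroup M) (lam : ∀ i, H i → ℂ) (f : ι → M) :
    ∏ i, indFun (H i) (lam i) (f i) =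
      indFun (Subgroup.pi Set.univ H) (fun x => ∏ i, lam i ⟨x.1 i, x.2 i (Set.mem_univ i)⟩) f := by
  classical
  simp only [indFun, Finset.prod_mul_distrib, Finset.prod_inv_distrib]
  rw [Fintype.prod_sum]
  congr 1
  · rw [inv_inj, ← Nat.cast_prod]
    congr 1
    rw [← Nat.card_pi]
    exact Nat.card_congr
      { toFun := fun x => ⟨fun i => (x i : M), fun i _ => (x i).2⟩
        invFun := fun x i => ⟨x.1 i, x.2 i (Set.mem_univ i)⟩
        left_inv := fun x => rfl
        right_inv := fun x => rfl }
  · refine Fintype.sum_congr _ _ fun x => ?_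
    by_cases hx : x⁻¹ * f * x ∈ Subgroup.pi Set.univ H
    · rw [extendByZero_mem _ hx]
      refine Finset.prod_congr rfl fun i _ => ?_
      rw [extendByZero_mem _ (show (x i)⁻¹ * f i * x i ∈ H i from hx i (Set.mem_univ i))]
      rfl
    · rw [extendByZero_notMem _ hx]
      obtain ⟨i, hi⟩ : ∃ i, (x i)⁻¹ * f i * x i ∉ H i := by
        by_contra h
        push Not at h
        exact hx fun i _ => h i
      exact Finset.prod_eq_zero (Finset.mem_univ i) (extendByZero_notMem _ hi)

end Pi

section Wreath

variable {M Q : Type u} [Group M] [Group Q] [Fintype M] [Fintype Q]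

/-- Kernel of `M ≀ᵣ Q → Q`. -/
abbrev wreathBase (M Q : Type u) [Group M] [Group Q] : Subgroup (M ≀ᵣ Q) :=
  (RegularWreathProduct.rightHom : M ≀ᵣ Q →* Q).ker

omit [Fintype M] [Fintype Q] in
theorem mem_wreathBase {w : M ≀ᵣ Q} : w ∈ wreathBase M Q ↔ w.right = 1 := Iff.rfl

omit [Fintype M] [Fintype Q] in
theorem right_eq_one (b : wreathBase M Q) : (b : M ≀ᵣ Q).right = 1 := b.2

/-- The base group as a power. -/
def baseEquiv : wreathBase M Q ≃* (Q → M) where
  toFun b := (b : M ≀ᵣ Q).left
  invFun f := ⟨⟨f, 1⟩, rfl⟩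
  left_inv b := Subtype.ext (RegularWreathProduct.ext rfl (right_eq_one b).symm)
  right_inv f := rfl
  map_mul' a b := by simp [right_eq_one a]

/-- **Dade**: the wreath product of an M-group with a group of prime order is an M-group. -/
theorem isMonomialGroup_wreath [Fintype (M ≀ᵣ Q)] (hM : IsMonomialGroup M) (p : ℕ)
    (hp : p.Prime) (hQ : Nat.card Q = p) : IsMonomialGroup (M ≀ᵣ Q) := by
  classical
  intro χ hχ
  let B := wreathBase M Q
  haveI : B.Normal := inferInstance
  haveI : Fintype B := Fintype.ofFinite _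
  let e : B ≃* (Q → M) := baseEquiv
  have hχc := IsIrrCharacter.isCharacter hχ
  obtain ⟨θ, hθcon⟩ := CharClifford.exists_constituent (CharCore.isCharacter_restrict hχc B)
    (irr_apply_one_ne_zero (⟨χ, hχ⟩ : IrrCharacter (M ≀ᵣ Q)))
  have hθ' : IsIrrCharacter (Q → M) fun f => (θ : B → ℂ) (e.symm f) :=
    isIrrCharacter_comp_surjective θ.2 e.symm.toMonoidHom e.symm.surjective
  obtain ⟨η, hη⟩ := exists_eq_prod hθ'
  choose H lam hlam using fun q => hM _ (η q).2
  have hθf : ∀ b : B, (θ : B → ℂ) b = ∏ q, (η q : M → ℂ) ((b : M ≀ᵣ Q).left q) := fun b => by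
    have h := congrFun hη (e b)
    rwa [e.symm_apply_apply] at h
  have hfrob : classInner χ (indFun B (θ : B → ℂ)) ≠ 0 := by
    rw [classInner_indFun_right B _ (CharCore.IsCharacter.isClassFunction hχc)]
    exact hθcon
  by_cases hinv : ∀ x : M ≀ᵣ Q, CharClifford.conjFun B x (θ : B → ℂ) = (θ : B → ℂ)
  · -- the invariant case
    have hsame : ∀ a b, η a = η b := by
      intro a b
      obtain ⟨q, hqa⟩ : ∃ q : Q, q * a = b := ⟨b * a⁻¹, inv_mul_cancel_right b a⟩
      by_contra hne
      -- evaluate at functions supported at one point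
      have hq : ∀ f : Q → M, ∏ c, (η c : M → ℂ) (f (q⁻¹ * c)) = ∏ c, (η c : M → ℂ) (f c) := by
        intro f
        have h := congrFun (hinv (RegularWreathProduct.inl q)) (e.symm f)
        rw [CharClifford.conjFun_apply, hθf, hθf] at h
        simpa [e, baseEquiv] using h
      let P : ℂ := ∏ c, (η c : M → ℂ) 1
      have key : ∀ m : M, (η b : M → ℂ) m * (η a : M → ℂ) 1 = (η a : M → ℂ) m * (η b : M → ℂ) 1 := by
        intro m
        have h := hq (Function.update (fun _ => 1) a m)
        rw [← Finset.mul_prod_erase _ _ (Finset.mem_univ b),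
          ← Finset.mul_prod_erase _ _ (Finset.mem_univ a)] at h
        have hb : q⁻¹ * b = a := by rw [← hqa, inv_mul_cancel_left]
        rw [hb, Function.update_self] at h
        have e1 : ∏ c ∈ Finset.univ.erase b, (η c : M → ℂ) (Function.update (fun _ => (1 : M)) a m (q⁻¹ * c))
            = ∏ c ∈ Finset.univ.erase b, (η c : M → ℂ) 1 :=
          Finset.prod_congr rfl fun c hc => by
            rw [Function.update_of_ne (fun hca => Finset.ne_of_mem_erase hc
              (by rw [← hqa, ← hca, mul_inv_cancel_left]))]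
        have e2 : ∏ c ∈ Finset.univ.erase a, (η c : M → ℂ) (Function.update (fun _ => (1 : M)) a m c)
            = ∏ c ∈ Finset.univ.erase a, (η c : M → ℂ) 1 :=
          Finset.prod_congr rfl fun c hc => by
            rw [Function.update_of_ne (Finset.ne_of_mem_erase hc)]
        rw [e1, e2] at h
        have h1 := Finset.mul_prod_erase Finset.univ (fun c => (η c : M → ℂ) 1) (Finset.mem_univ b)
        have h2 := Finset.mul_prod_erase Finset.univ (fun c => (η c : M → ℂ) 1) (Finset.mem_univ a)
        have h0 : ∏ c ∈ Finset.univ.erase a, (η c : M → ℂ) 1 ≠ 0 :=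
          Finset.prod_ne_zero_iff.mpr fun c _ => irr_apply_one_ne_zero (η c)
        refine mul_right_cancel₀ h0 ?_
        linear_combination (η b : M → ℂ) m * h2 - (η b : M → ℂ) m * h1 + (η b : M → ℂ) 1 * h
      have hs : ((η a : M → ℂ) 1) • (η b : M → ℂ) = ((η b : M → ℂ) 1) • (η a : M → ℂ) :=
        funext fun m => by simp only [Pi.smul_apply, smul_eq_mul]; linear_combination key m
      have h := congrArg (fun f => classInner f (η b : M → ℂ)) hs
      simp only [CharCore.classInner_smul_left, classInner_irr_self, mul_one,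
        classInner_irr_of_ne hne, mul_zero] at h
      exact irr_apply_one_ne_zero (η a) h
    let H₀ := H 1
    let l₀ := lam 1
    let K : Subgroup (M ≀ᵣ Q) :=
      { carrier := {w | ∀ c, w.left c ∈ H₀}
        one_mem' := fun c => H₀.one_mem
        mul_mem' := fun {a b} ha hb c => H₀.mul_mem (ha c) (hb _)
        inv_mem' := fun {a} ha c => H₀.inv_mem (ha _) }
    let L : K →* ℂˣ :=
      { toFun := fun w => ∏ c, l₀ ⟨(w : M ≀ᵣ Q).left c, w.2 c⟩
        map_one' := Finset.prod_eq_one fun c _ => (congrArg l₀ (Subtype.ext rfl)).trans l₀.map_one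
        map_mul' := fun a b => by
          rw [← Equiv.prod_comp (Equiv.mulLeft (a : M ≀ᵣ Q).right⁻¹)
            (fun c => l₀ ⟨(b : M ≀ᵣ Q).left c, b.2 c⟩), ← Finset.prod_mul_distrib]
          refine Finset.prod_congr rfl fun c _ => ?_
          rw [← map_mul]
          rfl }
    have hlin : ∀ ν : IrrCharacter Q, ∃ f : Q →* ℂˣ, (ν : Q → ℂ) = fun q => (f q : ℂ) := by
      intro ν
      obtain ⟨d, -, hd, hν⟩ := CharClifford.exists_degree_dvd_index_center ν.2
      haveI : Fact p.Prime := ⟨hp⟩
      haveI : IsCyclic Q := isCyclic_of_prime_card hQ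
      have hc : Subgroup.center Q = ⊤ := eq_top_iff.mpr fun a _ =>
        Subgroup.mem_center_iff.mpr fun b => mul_comm' b a
      rw [hc, Subgroup.index_top, Nat.dvd_one] at hd
      exact IsCharacter.exists_hom_of_degree_one (irr_isCharacter ν) (by rw [hν, hd, Nat.cast_one])
    choose ν hν using hlin
    let Λ : IrrCharacter Q → (K →* ℂˣ) := fun ξ =>
      L * (ν ξ).comp (RegularWreathProduct.rightHom.comp K.subtype)
    let ψ : IrrCharacter Q → (M ≀ᵣ Q) → ℂ := fun ξ => indFun K fun k => (Λ ξ k : ℂ)
    have hψc : ∀ ξ, IsCharacter (M ≀ᵣ Q) (ψ ξ) := fun ξ =>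
      isCharacter_indFun K (IsIrrCharacter.isCharacter (isIrrCharacter_hom (Λ ξ)))
    have hKcard : Nat.card K = Nat.card H₀ ^ Nat.card Q * Nat.card Q := by
      rw [← Nat.card_fun, ← Nat.card_prod]
      exact Nat.card_congr
        { toFun := fun w => (fun c => ⟨(w : M ≀ᵣ Q).left c, w.2 c⟩, (w : M ≀ᵣ Q).right)
          invFun := fun v => ⟨⟨fun c => (v.1 c : M), v.2⟩, fun c => (v.1 c).2⟩
          left_inv := fun w => rfl
          right_inv := fun v => rfl }
    -- on the base group every `ψ ξ` is `θ`
    have hres : ∀ ξ (b : B), ψ ξ b = (θ : B → ℂ) b := by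
      intro ξ b
      rw [hθf b, Finset.prod_congr rfl fun c _ => by rw [hsame c 1, hlam 1]]
      simp only [ψ, indFun, hKcard, Finset.prod_mul_distrib, Finset.prod_const, Finset.card_univ,
        ← Nat.card_eq_fintype_card]
      rw [Fintype.prod_sum, ← Equiv.sum_comp (RegularWreathProduct.equivProd M Q).symm,
        Fintype.sum_prod_type, Finset.sum_comm]
      have hterm : ∀ (r : Q) (g : Q → M),
          extendByZero K (fun k => (Λ ξ k : ℂ))
            (((RegularWreathProduct.equivProd M Q).symm (g, r))⁻¹ * (b : M ≀ᵣ Q) *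
              (RegularWreathProduct.equivProd M Q).symm (g, r)) =
          ∏ c, extendByZero H₀ (fun h => (l₀ h : ℂ)) ((g c)⁻¹ * (b : M ≀ᵣ Q).left c * g c) := by
        intro r g
        set w := ((RegularWreathProduct.equivProd M Q).symm (g, r))⁻¹ * (b : M ≀ᵣ Q) *
          (RegularWreathProduct.equivProd M Q).symm (g, r) with hw
        have hwl : ∀ c, w.left c = (g (r * c))⁻¹ * (b : M ≀ᵣ Q).left (r * c) * g (r * c) := by
          intro c
          simp [hw, RegularWreathProduct.equivProd, right_eq_one b, mul_assoc]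
        have hwr : w.right = 1 := by
          simp [hw, RegularWreathProduct.equivProd, right_eq_one b]
        by_cases hmem : w ∈ K
        · rw [extendByZero_mem _ hmem, ← Equiv.prod_comp (Equiv.mulLeft r)
            (fun c => extendByZero H₀ (fun h => (l₀ h : ℂ)) ((g c)⁻¹ * (b : M ≀ᵣ Q).left c * g c))]
          simp only [Λ, L, MonoidHom.mul_apply, MonoidHom.coe_mk, OneHom.coe_mk, MonoidHom.comp_apply,
            Subgroup.coe_subtype, RegularWreathProduct.rightHom_eq_right, hwr, map_one, mul_one,
            Units.coe_prod, Equiv.coe_mulLeft]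
          refine Finset.prod_congr rfl fun c _ => ?_
          rw [extendByZero_mem _ (show (g (r * c))⁻¹ * (b : M ≀ᵣ Q).left (r * c) * g (r * c) ∈ H₀ from
            hwl c ▸ hmem c)]
          exact congrArg (fun h => ((l₀ h : ℂˣ) : ℂ)) (Subtype.ext (hwl c))
        · rw [extendByZero_notMem _ hmem]
          obtain ⟨c, hc⟩ : ∃ c, w.left c ∉ H₀ := by
            by_contra h
            push Not at h
            exact hmem h
          rw [hwl] at hc
          refine (Finset.prod_eq_zero (Finset.mem_univ (r * c)) ?_).symm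
          exact extendByZero_notMem _ hc
      rw [Finset.sum_congr rfl fun r _ => Finset.sum_congr rfl fun g _ => hterm r g,
        Finset.sum_const, Finset.card_univ, nsmul_eq_mul, Fintype.card_eq_nat_card, Nat.cast_mul,
        Nat.cast_pow, inv_pow]
      have hQ0 : (Nat.card Q : ℂ) ≠ 0 := Nat.cast_ne_zero.mpr Nat.card_pos.ne'
      field_simp
      simp only [H₀, l₀]
      exact mul_comm _ _
    -- some `ψ ξ` has `χ` as a constituent
    have hsum : ∀ w, ∑ ξ, ψ ξ w = indFun B (θ : B → ℂ) w := by
      intro w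
      by_cases hw : w.right = 1
      · obtain ⟨b, rfl⟩ : ∃ b : B, (b : M ≀ᵣ Q) = w := ⟨⟨w, mem_wreathBase.mpr hw⟩, rfl⟩
        rw [CharClifford.indFun_apply_normal B]
        simp only [hres, hinv, Finset.sum_const, Finset.card_univ, nsmul_eq_mul]
        rw [← mul_assoc]
        congr 1
        have h1 : Fintype.card (IrrCharacter Q) = p := by
          have h := sum_degree_sq (G := Q)
          simp only [hν, map_one, Units.val_one, one_pow, Finset.sum_const, Finset.card_univ,
            nsmul_eq_mul, mul_one, hQ] at h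
          exact_mod_cast h
        have h2 : Nat.card (M ≀ᵣ Q) = p * Nat.card B := by
          rw [RegularWreathProduct.card, hQ, mul_comm, Nat.card_congr e.toEquiv, Nat.card_fun, hQ]
        rw [h1, Fintype.card_eq_nat_card, h2, Nat.cast_mul, mul_comm (p : ℂ),
          inv_mul_cancel_left₀ (Nat.cast_ne_zero.mpr Nat.card_pos.ne')]
      · rw [CharClifford.indFun_eq_zero_of_notMem B _ hw]
        simp only [ψ, indFun, ← Finset.mul_sum]
        rw [Finset.sum_comm]
        refine mul_eq_zero_of_right _ (Finset.sum_eq_zero fun x _ => ?_)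
        by_cases hmem : x⁻¹ * w * x ∈ K
        · rw [Finset.sum_congr rfl (g := fun ξ : IrrCharacter Q =>
            (L ⟨_, hmem⟩ : ℂ) * ((ξ : Q → ℂ) 1 * (ξ : Q → ℂ) (x⁻¹ * w * x).right))
            (fun ξ _ => by
              rw [extendByZero_mem _ hmem, hν ξ]
              simp [Λ]), ← Finset.mul_sum, sum_degree_mul_apply, if_neg, mul_zero]
          intro h
          apply hw
          simp only [RegularWreathProduct.mul_right, RegularWreathProduct.inv_right] at h
          have h' := congrArg (fun t => x.right * t * x.right⁻¹) h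
          simpa [mul_assoc] using h'
        · exact Finset.sum_eq_zero fun ξ _ => extendByZero_notMem _ hmem
    obtain ⟨ξ, hξ⟩ : ∃ ξ, classInner χ (ψ ξ) ≠ 0 := by
      by_contra h
      push Not at h
      apply hfrob
      rw [show indFun B (θ : B → ℂ) = ∑ ξ, ψ ξ from funext fun w => by
        rw [Finset.sum_apply, hsum], CharCore.classInner_sum_right]
      exact Finset.sum_eq_zero fun ξ _ => h ξ
    refine ⟨K, Λ ξ, ?_⟩
    obtain ⟨m, hm⟩ := IsCharacter.exists_sum (hψc ξ)
    have hm1 : m ⟨χ, hχ⟩ ≠ 0 := by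
      intro h0
      apply hξ
      rw [← conj_classInner, hm, classInner_sum_all (fun η => (m η : ℂ)) ⟨χ, hχ⟩, h0, Nat.cast_zero,
        map_zero]
    choose d hd0 _ hd using fun η : IrrCharacter (M ≀ᵣ Q) => CharClifford.exists_degree_dvd_card η.2
    obtain ⟨dθ, -, -, hdθ⟩ := CharClifford.exists_degree_dvd_card θ.2
    have hdeg : ∑ η, m η * d η = dθ := by
      have h := congrFun hm 1
      simp only [Finset.sum_apply, Pi.smul_apply, smul_eq_mul, hd] at h
      have h' : ψ ξ 1 = (dθ : ℂ) := by rw [← hdθ, ← hres ξ 1, OneMemClass.coe_one]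
      rw [h'] at h
      exact_mod_cast h.symm
    have hle : dθ ≤ d ⟨χ, hχ⟩ := by
      obtain ⟨a, ha⟩ := IsCharacter.exists_sum (CharCore.isCharacter_restrict hχc B)
      have ha0 : a θ ≠ 0 := fun h0 => hθcon (by
        rw [ha, classInner_sum_all (fun η => (a η : ℂ)) θ, h0, Nat.cast_zero])
      choose f _ _ hf using fun η : IrrCharacter B => CharClifford.exists_degree_dvd_card η.2
      have hfθ : f θ = dθ := by exact_mod_cast (hf θ).symm.trans hdθ
      have h := congrFun ha 1
      simp only [Finset.sum_apply, Pi.smul_apply, smul_eq_mul, hf, OneMemClass.coe_one] at h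
      rw [show χ 1 = (d ⟨χ, hχ⟩ : ℂ) from hd ⟨χ, hχ⟩] at h
      have h' : d ⟨χ, hχ⟩ = ∑ η, a η * f η := by exact_mod_cast h
      rw [h', ← hfθ]
      exact le_trans (Nat.le_mul_of_pos_left _ (Nat.pos_of_ne_zero ha0))
        (Finset.single_le_sum (f := fun η => a η * f η) (fun _ _ => Nat.zero_le _) (Finset.mem_univ θ))
    have h5 := Finset.add_sum_erase Finset.univ (fun η => m η * d η)
      (Finset.mem_univ (⟨χ, hχ⟩ : IrrCharacter (M ≀ᵣ Q)))
    have h3 : d ⟨χ, hχ⟩ ≤ m ⟨χ, hχ⟩ * d ⟨χ, hχ⟩ :=
      Nat.le_mul_of_pos_left _ (Nat.pos_of_ne_zero hm1)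
    have hm2 : m ⟨χ, hχ⟩ = 1 :=
      Nat.eq_of_mul_eq_mul_right (hd0 ⟨χ, hχ⟩) (by rw [one_mul]; omega)
    have hrest : ∀ η, η ≠ ⟨χ, hχ⟩ → m η = 0 := by
      intro η hη
      have h4 : ∑ η ∈ Finset.univ.erase ⟨χ, hχ⟩, m η * d η = 0 := by omega
      exact (mul_eq_zero.mp (Finset.sum_eq_zero_iff.mp h4 η
        (Finset.mem_erase.mpr ⟨hη, Finset.mem_univ _⟩))).resolve_right (hd0 η).ne'
    show χ = ψ ξ
    rw [hm, Finset.sum_eq_single ⟨χ, hχ⟩ (fun η _ hη => by rw [hrest η hη]; simp) (by simp), hm2]
    simp
  · -- induced from the base group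
    push Not at hinv
    obtain ⟨x₀, hx₀⟩ := hinv
    have hfix : ∀ x : M ≀ᵣ Q, CharClifford.conjFun B x (θ : B → ℂ) = (θ : B → ℂ) → x ∈ B := by
      intro x hx
      let T : Subgroup (M ≀ᵣ Q) :=
        { carrier := {y | CharClifford.conjFun B y (θ : B → ℂ) = (θ : B → ℂ)}
          one_mem' := CharClifford.conjFun_one B _
          mul_mem' := fun {a b} ha hb => by
            show CharClifford.conjFun B (a * b) _ = _
            rw [← CharClifford.conjFun_conjFun, show CharClifford.conjFun B a _ = _ from ha]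
            exact hb
          inv_mem' := fun {a} ha => by
            show CharClifford.conjFun B a⁻¹ _ = _
            conv_lhs => rw [← show CharClifford.conjFun B a _ = _ from ha]
            rw [CharClifford.conjFun_conjFun, mul_inv_cancel, CharClifford.conjFun_one] }
      have hBT : B ≤ T := fun b hb =>
        CharClifford.conjFun_of_mem B (irr_isClassFunction θ) hb
      have hidx : B.index = p := by
        rw [show B = (RegularWreathProduct.rightHom : M ≀ᵣ Q →* Q).ker from rfl,
          Subgroup.index_ker, MonoidHom.range_eq_top.mpr, Subgroup.card_top, hQ]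
        exact fun q => ⟨RegularWreathProduct.inl q, rfl⟩
      have hd := Subgroup.relIndex_mul_index hBT
      rw [hidx] at hd
      rcases (Nat.dvd_prime hp).mp (Dvd.intro _ hd : B.relIndex T ∣ p) with h | h
      · exact (Subgroup.relIndex_eq_one.mp h) hx
      · exfalso
        rw [h] at hd
        have h1 : T.index = 1 := Nat.eq_of_mul_eq_mul_left hp.pos (by rw [hd, mul_one])
        exact hx₀ ((Subgroup.index_eq_one.mp h1).ge (Subgroup.mem_top x₀))
    have hnorm : classInner (indFun B (θ : B → ℂ)) (indFun B (θ : B → ℂ)) = 1 := by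
      rw [CharClifford.classInner_indFun_indFun]
      have h : ∀ x : M ≀ᵣ Q, classInner (θ : B → ℂ) (CharClifford.conjFun B x θ)
          = if x ∈ B then 1 else 0 := by
        intro x
        split_ifs with hx
        · rw [CharClifford.conjFun_of_mem B (irr_isClassFunction θ) hx, classInner_irr_self]
        · exact classInner_irr_of_ne (ψ := ⟨_, CharClifford.isIrrCharacter_conjFun B θ.2 x⟩)
            fun he => hx (hfix x (congrArg Subtype.val he).symm)
      rw [Finset.sum_congr rfl fun x _ => h x, Finset.sum_boole, ← Fintype.card_subtype,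
        ← Nat.card_eq_fintype_card]
      exact inv_mul_cancel₀ (Nat.cast_ne_zero.mpr Nat.card_pos.ne')
    have hirr : IsIrrCharacter (M ≀ᵣ Q) (indFun B (θ : B → ℂ)) :=
      isIrrCharacter_iff.mpr ⟨isCharacter_indFun B (irr_isCharacter θ), hnorm⟩
    have hχeq : χ = indFun B (θ : B → ℂ) := by
      by_contra hne
      exact hfrob (classInner_irr_of_ne (χ := ⟨χ, hχ⟩) (ψ := ⟨_, hirr⟩)
        fun h => hne (congrArg Subtype.val h))
    -- `θ` is monomial
    let A : Subgroup (Q → M) := Subgroup.pi Set.univ H
    let μ : A →* ℂˣ := ∏ q, (lam q).comp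
      ({ toFun := fun x => ⟨x.1 q, x.2 q (Set.mem_univ q)⟩
         map_one' := rfl
         map_mul' := fun _ _ => rfl } : A →* H q)
    let A' : Subgroup B := A.comap e.toMonoidHom
    let μ' : A' →* ℂˣ := μ.comp
      ((e.toMonoidHom.comp A'.subtype).codRestrict A fun x => x.2)
    have hθind : (θ : B → ℂ) = indFun A' fun x => (μ' x : ℂ) := by
      funext b
      rw [hθf b, Finset.prod_congr rfl fun q _ => by rw [hlam q], prod_indFun]
      have hA : Nat.card A' = Nat.card A :=
        Nat.card_congr (e.toEquiv.subtypeEquiv fun _ => Iff.rfl)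
      simp only [indFun, hA]
      congr 1
      refine (Fintype.sum_equiv e.toEquiv _ _ fun x => ?_).symm
      by_cases hx : x⁻¹ * b * x ∈ A'
      · have hx' : (e x)⁻¹ * (b : M ≀ᵣ Q).left * e x ∈ A := by
          simpa [A', e, baseEquiv, map_mul, map_inv] using hx
        rw [extendByZero_mem _ hx]
        show _ = extendByZero A _ ((e x)⁻¹ * _ * e x)
        rw [extendByZero_mem _ hx']
        simp only [μ', μ, MonoidHom.comp_apply, MonoidHom.finsetProd_apply, Units.coe_prod]
        refine Finset.prod_congr rfl fun q _ => ?_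
        refine congrArg (fun h => ((lam q h : ℂˣ) : ℂ)) (Subtype.ext ?_)
        show (e (x⁻¹ * b * x)) q = ((e x)⁻¹ * (b : M ≀ᵣ Q).left * e x) q
        rw [map_mul, map_mul, map_inv]
        rfl
      · have hx' : (e x)⁻¹ * (b : M ≀ᵣ Q).left * e x ∉ A := by
          intro h
          apply hx
          show e (x⁻¹ * b * x) ∈ A
          rw [map_mul, map_mul, map_inv]
          exact h
        rw [extendByZero_notMem _ hx]
        show _ = extendByZero A _ ((e x)⁻¹ * _ * e x)
        rw [extendByZero_notMem _ hx']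
    refine ⟨A'.map B.subtype,
      μ'.comp (A'.equivMapOfInjective B.subtype B.subtype_injective).symm.toMonoidHom, ?_⟩
    rw [hχeq, hθind, indFun_indFun]
    rfl

end Wreath

section Embedding

/-- Kaloujnine-Krasner. -/
theorem exists_injective_wreath {G : Type u} [Group G] (N : Subgroup G) [N.Normal] {M : Type u}
    [Group M] (j : N →* M) (hj : Function.Injective j) :
    ∃ Φ : G →* M ≀ᵣ (G ⧸ N), Function.Injective Φ := by
  let s : G ⧸ N → G := Quotient.out
  have hs : ∀ q, ((s q : G) : G ⧸ N) = q := QuotientGroup.out_eq'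
  have hmem : ∀ (g : G) (x : G ⧸ N), (s x)⁻¹ * g * s ((g : G ⧸ N)⁻¹ * x) ∈ N := fun g x => by
    rw [← QuotientGroup.eq_one_iff (N := N)]
    simp only [QuotientGroup.mk_mul, QuotientGroup.mk_inv, hs]
    group
  refine ⟨MonoidHom.mk' (fun g => ⟨fun x => j ⟨_, hmem g x⟩, (g : G ⧸ N)⟩) fun g h => ?_, ?_⟩
  · refine RegularWreathProduct.ext (funext fun x => ?_) rfl
    show j _ = j _ * j _
    rw [← map_mul]
    refine congrArg j (Subtype.ext ?_)
    show (s x)⁻¹ * (g * h) * s (((g * h : G) : G ⧸ N)⁻¹ * x)
      = (s x)⁻¹ * g * s ((g : G ⧸ N)⁻¹ * x) *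
        ((s ((g : G ⧸ N)⁻¹ * x))⁻¹ * h * s ((h : G ⧸ N)⁻¹ * ((g : G ⧸ N)⁻¹ * x)))
    rw [show ((g * h : G) : G ⧸ N)⁻¹ * x = (h : G ⧸ N)⁻¹ * ((g : G ⧸ N)⁻¹ * x) by
      rw [QuotientGroup.mk_mul]; group]
    group
  · rw [injective_iff_map_eq_one]
    intro g hg
    have hr : (g : G ⧸ N) = 1 := congrArg RegularWreathProduct.right hg
    have hl := congrFun (congrArg RegularWreathProduct.left hg) 1
    change j _ = 1 at hl
    rw [map_eq_one_iff j hj] at hl
    have h := congrArg Subtype.val hl
    simp only [hr, inv_one, mul_one, OneMemClass.coe_one] at h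
    have h' := congrArg (fun t => s 1 * t * (s 1)⁻¹) h
    simpa [mul_assoc] using h'

/-- **Dade**: every finite solvable group embeds in a finite M-group. -/
theorem exists_embedding_monomial : ∀ (n : ℕ) (G : Type u) [Group G] [Finite G],
    Group.IsSolvable G → Nat.card G = n → ∃ (M : Type u) (_ : Group M) (_ : Fintype M),
      IsMonomialGroup M ∧ ∃ f : G →* M, Function.Injective f := by
  intro n
  induction n using Nat.strong_induction_on with
  | _ n ih =>
    intro G _ _ hsolv hn
    classical
    rcases subsingleton_or_nontrivial G with h | h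
    · haveI := Fintype.ofFinite G
      refine ⟨G, inferInstance, inferInstance, fun χ hχ => ?_, MonoidHom.id G, fun _ _ h => h⟩
      obtain ⟨d, -, hd, hχd⟩ := CharClifford.exists_degree_dvd_card hχ
      rw [Nat.card_of_subsingleton (1 : G), Nat.dvd_one] at hd
      refine ⟨⊤, 1, funext fun g => ?_⟩
      rw [indFun_top (θ := fun h : (⊤ : Subgroup G) =>
        (((1 : ↥(⊤ : Subgroup G) →* ℂˣ) h : ℂˣ) : ℂ)) (fun _ _ => rfl) g]
      rw [Subsingleton.elim g 1, hχd, hd]
      simp
    · haveI := hsolv
      obtain ⟨N, hN, hNp, -⟩ := Solvable.exists_normal_prime_index G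
      haveI := hN
      have hlt : Nat.card N < n := by
        rw [← hn, ← N.card_mul_index]
        exact lt_mul_of_one_lt_right Nat.card_pos hNp.one_lt
      obtain ⟨M, iM, fM, hM, j, hj⟩ := ih _ hlt N inferInstance rfl
      haveI := Fintype.ofFinite (G ⧸ N)
      haveI : Fintype (M ≀ᵣ (G ⧸ N)) := Fintype.ofFinite _
      obtain ⟨Φ, hΦ⟩ := exists_injective_wreath N j hj
      exact ⟨M ≀ᵣ (G ⧸ N), inferInstance, inferInstance,
        isMonomialGroup_wreath hM N.index hNp N.index_eq_card.symm, Φ, hΦ⟩

end Embedding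

end Cfsg.Agent.CharInd
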