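import Cfsg.Agent.Lib.CharInd.Basic
import Mathlib.GroupTheory.GroupAction.CardCommute

/-!
# Elementary facts on Frobenius groups given by a fixed-point-free complement
-/

set_option autoImplicit false

open Cfsg

namespace Cfsg.Agent.CharInd

universe u

variable {G : Type u} [Group G] [Finite G] {K H : Subgroup G} [K.Normal]

theorem exists_conj_complement (hKH : K ⊓ H = ⊥) (hKH' : K ⊔ H = ⊤)
    (hfpf : ∀ h ∈ H, h ≠ 1 → ∀ k ∈ K, h * k = k * h → k = 1) {y : G} (hy : y ∉ K) :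
    ∃ l ∈ K, ∃ h ∈ H, h ≠ 1 ∧ y = l * h * l⁻¹ := by
  have hmem : y ∈ ((K ⊔ H : Subgroup G) : Set G) := hKH' ▸ Subgroup.mem_top y
  rw [Subgroup.normal_mul] at hmem
  obtain ⟨k, hk, h, hh, rfl⟩ := hmem
  have hh1 : h ≠ 1 := fun e => hy (by simpa [e] using hk)
  let f : K → K := fun l => ⟨(l : G) * (h * (l : G)⁻¹ * h⁻¹),
    K.mul_mem l.2 (Subgroup.Normal.conj_mem ‹_› _ (K.inv_mem l.2) h)⟩
  have hinj : Function.Injective f := by
    intro a b hab
    have e : (a : G) * (h * (a : G)⁻¹ * h⁻¹) = (b : G) * (h * (b : G)⁻¹ * h⁻¹) :=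
      congrArg Subtype.val hab
    have hc : h * ((b : G)⁻¹ * a) = (b : G)⁻¹ * a * h := by
      calc h * ((b : G)⁻¹ * a)
          = (b : G)⁻¹ * ((b : G) * (h * (b : G)⁻¹ * h⁻¹)) * (h * a) := by group
        _ = (b : G)⁻¹ * ((a : G) * (h * (a : G)⁻¹ * h⁻¹)) * (h * a) := by rw [e]
        _ = (b : G)⁻¹ * a * h := by group
    have h1 := hfpf h hh hh1 _ (K.mul_mem (K.inv_mem b.2) a.2) hc
    exact Subtype.ext (inv_mul_eq_one.1 h1).symm
  obtain ⟨l, hl⟩ := (Finite.injective_iff_surjective.1 hinj) ⟨k, hk⟩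
  refine ⟨l, l.2, h, hh, hh1, ?_⟩
  have e : (l : G) * (h * (l : G)⁻¹ * h⁻¹) = k := congrArg Subtype.val hl
  show k * h = (l : G) * h * (l : G)⁻¹
  rw [← e]; group

omit [Finite G] in
/-- Two complement elements conjugate by `k * h₀` with `k ∈ K` are conjugate by `h₀`, and `k`
commutes with the image. -/
theorem conj_complement_inj (hKH : K ⊓ H = ⊥) {k h₀ h h' : G} (hk : k ∈ K) (hh₀ : h₀ ∈ H)
    (hh : h ∈ H) (hh' : h' ∈ H) (e : k * h₀ * h * (k * h₀)⁻¹ = h') :
    h₀ * h * h₀⁻¹ = h' ∧ k * h' = h' * k := by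
  have h1 : k * (h₀ * h * h₀⁻¹) * k⁻¹ = h' := by rw [← e]; group
  set m := h₀ * h * h₀⁻¹ with hm
  have hmH : m ∈ H := H.mul_mem (H.mul_mem hh₀ hh) (H.inv_mem hh₀)
  have h3 : h' * m⁻¹ ∈ K ⊓ H := by
    refine ⟨?_, H.mul_mem hh' (H.inv_mem hmH)⟩
    rw [← h1, mul_assoc, mul_assoc]
    refine K.mul_mem hk ?_
    rw [← mul_assoc]
    exact Subgroup.Normal.conj_mem ‹_› _ (K.inv_mem hk) m
  rw [hKH, Subgroup.mem_bot] at h3
  have h4 : h' = m := mul_inv_eq_one.1 h3
  refine ⟨h4.symm, ?_⟩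
  have h5 := mul_inv_eq_iff_eq_mul.1 h1
  rwa [← h4] at h5

/-- Counting commuting pairs in a Frobenius group. -/
theorem card_classes_frobenius (hKH : K ⊓ H = ⊥) (hKH' : K ⊔ H = ⊤)
    (hfpf : ∀ h ∈ H, h ≠ 1 → ∀ k ∈ K, h * k = k * h → k = 1) :
    Nat.card H * Nat.card (ConjClasses G) + 1
      = Nat.card H * Nat.card (ConjClasses H) + Nat.card (ConjClasses K) := by
  classical
  haveI := Fintype.ofFinite G
  have hcomp : Nat.card K * Nat.card H = Nat.card G := by
    rw [← Nat.card_prod]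
    refine Nat.card_eq_of_bijective (fun x : K × H => (x.1 : G) * x.2) ⟨?_, ?_⟩
    · exact Subgroup.mul_injective_of_disjoint (disjoint_iff.2 hKH)
    · intro y
      have hmem : y ∈ ((K ⊔ H : Subgroup G) : Set G) := hKH' ▸ Subgroup.mem_top y
      rw [Subgroup.normal_mul] at hmem
      obtain ⟨k, hk, h, hh, rfl⟩ := hmem
      exact ⟨(⟨k, hk⟩, ⟨h, hh⟩), rfl⟩
  have hnot : ∀ {h : G}, h ∈ H → h ≠ 1 → h ∉ K := fun {h} hh hh1 hk => hh1 (by
    have : h ∈ K ⊓ H := ⟨hk, hh⟩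
    rwa [hKH, Subgroup.mem_bot] at this)
  have split : ∀ (M : Type u) [Group M] [Finite M],
      Nat.card {p : M × M // Commute p.1 p.2}
        = Nat.card M + Nat.card {p : M × M // Commute p.1 p.2 ∧ p.1 ≠ 1} := by
    intro M _ _
    rw [← Nat.card_sum]
    refine (Nat.card_eq_of_bijective (fun x => Sum.elim
      (fun y : M => (⟨(1, y), Commute.one_left y⟩ : {p : M × M // Commute p.1 p.2}))
      (fun q : {p : M × M // Commute p.1 p.2 ∧ p.1 ≠ 1} => ⟨q.1, q.2.1⟩) x) ⟨?_, ?_⟩).symm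
    · rintro (a | a) (b | b) hab
      · exact congrArg Sum.inl (congrArg (fun p => p.1.2) hab)
      · exact absurd (congrArg (fun p => p.1.1) hab).symm b.2.2
      · exact absurd (congrArg (fun p => p.1.1) hab) a.2.2
      · exact congrArg Sum.inr (Subtype.ext (congrArg Subtype.val hab :))
    · rintro ⟨⟨a, b⟩, hab⟩
      by_cases ha : a = 1
      · subst ha; exact ⟨Sum.inl b, rfl⟩
      · exact ⟨Sum.inr ⟨(a, b), hab, ha⟩, rfl⟩
  have hG : Nat.card {p : G × G // Commute p.1 p.2 ∧ p.1 ≠ 1}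
      = Nat.card {p : K × K // Commute p.1 p.2 ∧ p.1 ≠ 1}
        + Nat.card K * Nat.card {p : H × H // Commute p.1 p.2 ∧ p.1 ≠ 1} := by
    rw [← Nat.card_prod, ← Nat.card_sum]
    let f1 : {p : K × K // Commute p.1 p.2 ∧ p.1 ≠ 1} →
        {p : G × G // Commute p.1 p.2 ∧ p.1 ≠ 1} :=
      fun q => ⟨(q.1.1, q.1.2), congrArg Subtype.val q.2.1, fun e => q.2.2 (Subtype.ext e)⟩
    let f2 : K × {p : H × H // Commute p.1 p.2 ∧ p.1 ≠ 1} →
        {p : G × G // Commute p.1 p.2 ∧ p.1 ≠ 1} :=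
      fun q => ⟨((q.1 : G) * q.2.1.1 * (q.1 : G)⁻¹, (q.1 : G) * q.2.1.2 * (q.1 : G)⁻¹),
        Commute.conj_iff (q.1 : G) |>.2 (congrArg Subtype.val q.2.2.1),
        fun e => q.2.2.2 (Subtype.ext (conj_eq_one_iff.1 e))⟩
    have f2K : ∀ q, (f2 q).1.1 ∉ K := fun q hq => hnot q.2.1.1.2
      (fun e => q.2.2.2 (Subtype.ext e)) (by
        have := Subgroup.Normal.conj_mem ‹_› _ hq (q.1 : G)⁻¹
        simpa [f2, mul_assoc] using this)
    refine (Nat.card_eq_of_bijective (Sum.elim f1 f2) ⟨?_, ?_⟩).symm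
    · rintro (a | a) (b | b) hab
      · have e1 := congrArg (fun p => p.1.1) hab
        have e2 := congrArg (fun p => p.1.2) hab
        exact congrArg Sum.inl (Subtype.ext (Prod.ext (Subtype.ext e1) (Subtype.ext e2)))
      · exact absurd ((congrArg (fun p => p.1.1) hab) ▸ a.1.1.2) (f2K b)
      · exact absurd ((congrArg (fun p => p.1.1) hab).symm ▸ b.1.1.2) (f2K a)
      · obtain ⟨l, ⟨⟨h, y⟩, hc, hne⟩⟩ := a
        obtain ⟨l', ⟨⟨h', y'⟩, hc', hne'⟩⟩ := b
        have e1 : (l : G) * h * (l : G)⁻¹ = (l' : G) * h' * (l' : G)⁻¹ :=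
          congrArg (fun p => p.1.1) hab
        have e2 : (l : G) * y * (l : G)⁻¹ = (l' : G) * y' * (l' : G)⁻¹ :=
          congrArg (fun p => p.1.2) hab
        have e3 : ((l' : G)⁻¹ * l) * 1 * h * (((l' : G)⁻¹ * l) * 1)⁻¹ = (h' : G) := by
          calc ((l' : G)⁻¹ * l) * 1 * h * (((l' : G)⁻¹ * l) * 1)⁻¹
              = (l' : G)⁻¹ * ((l : G) * h * (l : G)⁻¹) * l' := by group
            _ = (l' : G)⁻¹ * ((l' : G) * h' * (l' : G)⁻¹) * l' := by rw [e1]
            _ = h' := by group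
        obtain ⟨e4, e5⟩ := conj_complement_inj hKH (K.mul_mem (K.inv_mem l'.2) l.2) H.one_mem
          h.2 h'.2 e3
        have hl : l = l' := Subtype.ext (inv_mul_eq_one.1
          (hfpf h' h'.2 (fun e => hne' (Subtype.ext e)) _ (K.mul_mem (K.inv_mem l'.2) l.2)
            e5.symm)).symm
        subst hl
        have eh : h = h' := Subtype.ext (by simpa using e4)
        have ey : y = y' := Subtype.ext (mul_left_cancel (mul_right_cancel e2))
        subst eh ey
        rfl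
    · rintro ⟨⟨a, b⟩, hc, ha⟩
      have hc' : a * b = b * a := hc
      by_cases haK : a ∈ K
      · have hbK : b ∈ K := by
          by_contra hb
          obtain ⟨l, hl, h, hh, hh1, rfl⟩ := exists_conj_complement hKH hKH' hfpf hb
          have h1 := hfpf h hh hh1 (l⁻¹ * a * l)
            (by simpa using Subgroup.Normal.conj_mem ‹_› _ haK l⁻¹)
            (by
              calc h * (l⁻¹ * a * l) = l⁻¹ * (l * h * l⁻¹ * a) * l := by group
                _ = l⁻¹ * (a * (l * h * l⁻¹)) * l := by rw [hc']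
                _ = l⁻¹ * a * l * h := by group)
          exact ha (by
            calc a = l * (l⁻¹ * a * l) * l⁻¹ := by group
              _ = 1 := by rw [h1]; group)
        exact ⟨Sum.inl ⟨(⟨a, haK⟩, ⟨b, hbK⟩), Subtype.ext hc', fun e =>
          ha (congrArg Subtype.val e)⟩, rfl⟩
      · obtain ⟨l, hl, h, hh, hh1, rfl⟩ := exists_conj_complement hKH hKH' hfpf haK
        have hcy : h * (l⁻¹ * b * l) = l⁻¹ * b * l * h := by
          calc h * (l⁻¹ * b * l) = l⁻¹ * (l * h * l⁻¹ * b) * l := by group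
            _ = l⁻¹ * (b * (l * h * l⁻¹)) * l := by rw [hc']
            _ = l⁻¹ * b * l * h := by group
        have hmem : l⁻¹ * b * l ∈ ((K ⊔ H : Subgroup G) : Set G) :=
          hKH' ▸ Subgroup.mem_top _
        rw [Subgroup.normal_mul] at hmem
        obtain ⟨k, hk, y₀, hy₀, hky⟩ := hmem
        simp only at hky
        have e3 : k * y₀ * h * (k * y₀)⁻¹ = h := by
          rw [hky, ← hcy, mul_inv_cancel_right]
        obtain ⟨-, e5⟩ := conj_complement_inj hKH hk hy₀ hh hh e3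
        have hk1 := hfpf h hh hh1 k hk e5.symm
        rw [hk1, one_mul] at hky
        subst hky
        refine ⟨Sum.inr (⟨l, hl⟩, ⟨(⟨h, hh⟩, ⟨l⁻¹ * b * l, hy₀⟩), Subtype.ext hcy, fun e =>
          hh1 (congrArg Subtype.val e)⟩), Subtype.ext (Prod.ext rfl ?_)⟩
        show l * (l⁻¹ * b * l) * l⁻¹ = b
        group
  have e1 := split G
  have e2 := split K
  have e3 := split H
  rw [card_comm_eq_card_conjClasses_mul_card] at e1 e2 e3
  rw [hG] at e1
  generalize Nat.card {p : K × K // Commute p.1 p.2 ∧ p.1 ≠ 1} = sK at e1 e2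
  generalize Nat.card {p : H × H // Commute p.1 p.2 ∧ p.1 ≠ 1} = sH at e1 e3
  rw [← hcomp] at e1
  have hKpos : 0 < Nat.card K := Nat.card_pos
  refine Nat.eq_of_mul_eq_mul_left hKpos ?_
  nlinarith [e1, e2, e3]

end Cfsg.Agent.CharInd
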