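import Cfsg.Agent.Lib.CharInd.BilinearForm
import Cfsg.Agent.Lib.CharClifford.Central
import Mathlib.LinearAlgebra.Matrix.DotProduct
import Mathlib.Analysis.Complex.Basic
import Mathlib.Analysis.SpecialFunctions.Pow.Real

/-!
# Real forms of representations with a symmetric invariant bilinear form
-/

set_option autoImplicit false

open scoped ComplexConjugate
open Cfsg Module Matrix

namespace Cfsg.Agent.CharInd

universe u

variable {G : Type u} [Group G] {n : ℕ}

/-- A representation commuting with a conjugate-linear involution has a real form. -/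
theorem exists_real_form_of_conjugation (ρ : Representation ℂ G (Fin n → ℂ))
    (J : (Fin n → ℂ) →ₛₗ[starRingEnd ℂ] (Fin n → ℂ)) (hJ : ∀ v, J (J v) = v)
    (hJρ : ∀ g v, J (ρ g v) = ρ g (J v)) :
    ∃ (m : ℕ) (σ : Representation ℝ G (Fin m → ℝ)), ∀ g : G,
      ((LinearMap.trace ℝ (Fin m → ℝ) (σ g) : ℝ) : ℂ) = ρ.character g := by
  classical
  have hsm : ∀ (r : ℝ) (v : Fin n → ℂ), r • v = (r : ℂ) • v := fun r v => by
    funext i; simp [Complex.real_smul]
  let W : Submodule ℝ (Fin n → ℂ) :=
    { carrier := {v | J v = v}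
      add_mem' := fun {a b} ha hb => by
        show J (a + b) = a + b
        rw [map_add, show J a = a from ha, show J b = b from hb]
      zero_mem' := map_zero J
      smul_mem' := fun r a ha => by
        show J (r • a) = r • a
        rw [hsm, map_smulₛₗ, show J a = a from ha, Complex.conj_ofReal] }
  haveI : FiniteDimensional ℝ W := FiniteDimensional.finiteDimensional_submodule W
  let b := Module.finBasis ℝ W
  set m := finrank ℝ W with hm
  let w : Fin m → (Fin n → ℂ) := fun i => (b i : Fin n → ℂ)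
  have hLI : LinearIndependent ℂ w := by
    rw [Fintype.linearIndependent_iff]
    intro c hc i
    set x : W := ∑ j, (c j).re • b j with hx
    set y : W := ∑ j, (c j).im • b j with hy
    have hxy : (x : Fin n → ℂ) + Complex.I • (y : Fin n → ℂ) = 0 := by
      rw [← hc, hx, hy, Submodule.coe_sum, Submodule.coe_sum, Finset.smul_sum,
        ← Finset.sum_add_distrib]
      refine Finset.sum_congr rfl fun j _ => ?_
      rw [Submodule.coe_smul, Submodule.coe_smul, hsm, hsm, smul_smul, ← add_smul, mul_comm,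
        Complex.re_add_im]
    have hxy' : (x : Fin n → ℂ) - Complex.I • (y : Fin n → ℂ) = 0 := by
      have h := congrArg J hxy
      rw [map_add, map_smulₛₗ, show J (x : Fin n → ℂ) = x from x.2,
        show J (y : Fin n → ℂ) = y from y.2, Complex.conj_I, map_zero, neg_smul] at h
      rwa [sub_eq_add_neg]
    have hx0 : x = 0 := by
      apply Subtype.ext
      funext k
      have h1 := congrFun hxy k
      have h2 := congrFun hxy' k
      simp only [Pi.add_apply, Pi.sub_apply, Pi.smul_apply, smul_eq_mul, Pi.zero_apply] at h1 h2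
      simp only [Submodule.coe_zero, Pi.zero_apply]
      linear_combination (h1 + h2) / 2
    have hy0 : y = 0 := by
      apply Subtype.ext
      rw [hx0] at hxy
      simpa [Complex.I_ne_zero] using hxy
    exact Complex.ext (Fintype.linearIndependent_iff.1 b.linearIndependent _ hx0 i)
      (Fintype.linearIndependent_iff.1 b.linearIndependent _ hy0 i)
  have hspan : ∀ v : Fin n → ℂ, v ∈ Submodule.span ℂ (Set.range w) := by
    have hW : ∀ u : Fin n → ℂ, J u = u → u ∈ Submodule.span ℂ (Set.range w) := by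
      intro u hu
      have h := congrArg (Subtype.val) (b.sum_repr (⟨u, hu⟩ : W))
      simp only [Submodule.coe_sum, Submodule.coe_smul] at h
      rw [← h]
      refine Submodule.sum_mem _ fun j _ => ?_
      rw [hsm]
      exact Submodule.smul_mem _ _ (Submodule.subset_span ⟨j, rfl⟩)
    intro v
    have h1 : J (v + J v) = v + J v := by rw [map_add, hJ, add_comm]
    have h2 : J (Complex.I • (v - J v)) = Complex.I • (v - J v) := by
      rw [map_smulₛₗ, map_sub, hJ, Complex.conj_I, neg_smul, ← smul_neg, neg_sub]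
    have hv : v = (2 : ℂ)⁻¹ • (v + J v) + (-Complex.I / 2) • (Complex.I • (v - J v)) := by
      funext k
      simp only [Pi.add_apply, Pi.smul_apply, Pi.sub_apply, smul_eq_mul]
      linear_combination ((v k - J v k) / 2) * Complex.I_mul_I
    rw [hv]
    exact add_mem (Submodule.smul_mem _ _ (hW _ h1)) (Submodule.smul_mem _ _ (hW _ h2))
  let c := Basis.mk hLI (fun v _ => hspan v)
  have hcw : ∀ i, c i = w i := fun i => Basis.mk_apply hLI _ i
  let σ₀ : Representation ℝ G W :=
    { toFun := fun g => ((ρ g).restrictScalars ℝ).restrict (p := W) (q := W) fun v hv => by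
        show J (ρ g v) = ρ g v
        rw [hJρ, show J v = v from hv]
      map_one' := by
        refine LinearMap.ext fun v => Subtype.ext ?_
        simp
      map_mul' := fun g h => by
        refine LinearMap.ext fun v => Subtype.ext ?_
        simp }
  refine ⟨m,
    { toFun := fun g => b.equivFun.conj (σ₀ g)
      map_one' := by rw [map_one]; exact b.equivFun.conj_id
      map_mul' := fun g h => by rw [map_mul]; exact b.equivFun.conj_comp _ _ }, fun g => ?_⟩
  show ((LinearMap.trace ℝ (Fin m → ℝ) (b.equivFun.conj (σ₀ g)) : ℝ) : ℂ) = _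
  rw [LinearMap.trace_conj', LinearMap.trace_eq_matrix_trace ℝ b, Representation.character,
    LinearMap.trace_eq_matrix_trace ℂ c, Matrix.trace, Matrix.trace, Complex.ofReal_sum]
  refine Finset.sum_congr rfl fun i _ => ?_
  simp only [Matrix.diag, LinearMap.toMatrix_apply]
  have h : ρ g (w i) = ∑ j, ((b.repr (σ₀ g (b i)) j : ℝ) : ℂ) • w j := by
    have h1 := congrArg Subtype.val (b.sum_repr (σ₀ g (b i)))
    simp only [Submodule.coe_sum, Submodule.coe_smul] at h1
    simp only [w, ← hsm]
    rw [h1]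
    rfl
  rw [hcw, h]
  simp only [← hcw]
  rw [c.repr_sum_self]

variable [Fintype G]

/-- An irreducible representation with an invertible symmetric invariant matrix is real. -/
theorem exists_real_form_of_symmetric (ρ : Representation ℂ G (Fin n → ℂ)) [ρ.IsIrreducible]
    (M : Matrix (Fin n) (Fin n) ℂ) (hu : IsUnit M.det) (hsymm : Mᵀ = M)
    (hM : ∀ g, (LinearMap.toMatrix' (ρ g))ᵀ * M * LinearMap.toMatrix' (ρ g) = M) :
    ∃ (m : ℕ) (σ : Representation ℝ G (Fin m → ℝ)), ∀ g : G,
      ((LinearMap.trace ℝ (Fin m → ℝ) (σ g) : ℝ) : ℂ) = ρ.character g := by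
  classical
  -- bilinear and sesquilinear invariant forms
  let β : (Fin n → ℂ) →ₗ[ℂ] (Fin n → ℂ) →ₗ[ℂ] ℂ :=
    LinearMap.mk₂ ℂ (fun v x => v ⬝ᵥ (M *ᵥ x))
      (fun a b x => add_dotProduct a b _) (fun r a x => smul_dotProduct r a _)
      (fun v a b => by rw [Matrix.mulVec_add, dotProduct_add])
      (fun r v a => by rw [Matrix.mulVec_smul, dotProduct_smul])
  have hβ : ∀ v x, β v x = v ⬝ᵥ (M *ᵥ x) := fun _ _ => rfl
  have hβs : ∀ v x, β v x = β x v := fun v x => by
    rw [hβ, hβ, Matrix.dotProduct_mulVec, ← Matrix.mulVec_transpose, hsymm, dotProduct_comm]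
  have hβg : ∀ g v x, β (ρ g v) (ρ g x) = β v x := fun g v x => by
    rw [hβ, hβ, ← LinearMap.toMatrix'_mulVec (ρ g) v, ← LinearMap.toMatrix'_mulVec (ρ g) x,
      Matrix.mulVec_mulVec, dotProduct_comm, Matrix.dotProduct_mulVec, ← Matrix.mulVec_transpose,
      Matrix.mulVec_mulVec, dotProduct_comm, ← Matrix.mul_assoc, hM]
  let Φ : (Fin n → ℂ) →ₗ[ℂ] (Fin n → ℂ) →ₗ[ℂ] ℂ :=
    LinearMap.mk₂ ℂ (fun u x => ∑ g : G, star (ρ g (star u)) ⬝ᵥ (ρ g x))
      (fun a b x => by simp [star_add, map_add, add_dotProduct, Finset.sum_add_distrib])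
      (fun r a x => by simp [star_smul, map_smul, smul_dotProduct, Finset.mul_sum])
      (fun u a b => by simp [map_add, dotProduct_add, Finset.sum_add_distrib])
      (fun r u a => by simp [map_smul, dotProduct_smul, Finset.mul_sum])
  let h : (Fin n → ℂ) → (Fin n → ℂ) → ℂ := fun u x => Φ (star u) x
  have hh : ∀ u x, h u x = ∑ g : G, star (ρ g u) ⬝ᵥ (ρ g x) := fun u x => by
    simp [h, Φ]
  have hhg : ∀ g u x, h (ρ g u) (ρ g x) = h u x := fun g u x => by
    rw [hh, hh]
    refine Fintype.sum_equiv (Equiv.mulRight g) _ _ fun k => ?_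
    simp [map_mul]
  have hnorm : ∀ v : Fin n → ℂ, star v ⬝ᵥ v = ((∑ i, Complex.normSq (v i) : ℝ) : ℂ) := fun v => by
    simp only [dotProduct, Pi.star_apply, Complex.ofReal_sum, Complex.normSq_eq_conj_mul_self]
    rfl
  have hpos : ∀ v : Fin n → ℂ, v ≠ 0 → ∃ r : ℝ, 0 < r ∧ h v v = (r : ℂ) := by
    intro v hv
    refine ⟨∑ g : G, ∑ i, Complex.normSq (ρ g v i), ?_, by simp [hh, hnorm]⟩
    obtain ⟨i, hi⟩ := Function.ne_iff.1 hv
    refine Finset.sum_pos' (fun _ _ => Finset.sum_nonneg fun _ _ => Complex.normSq_nonneg _)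
      ⟨1, Finset.mem_univ _, ?_⟩
    refine Finset.sum_pos' (fun _ _ => Complex.normSq_nonneg _) ⟨i, Finset.mem_univ _, ?_⟩
    simpa using Complex.normSq_pos.2 hi
  have hΦinj : Function.Injective Φ := by
    rw [← LinearMap.ker_eq_bot, LinearMap.ker_eq_bot']
    intro u hu0
    by_contra hu1
    obtain ⟨r, hr, hval⟩ := hpos (star u) (star_eq_zero.not.2 hu1)
    have hz : h (star u) (star u) = 0 := by
      simp only [h, star_star, hu0, LinearMap.zero_apply]
    rw [hz, eq_comm, Complex.ofReal_eq_zero] at hval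
    exact hr.ne' hval
  have hΦsurj : Function.Surjective Φ :=
    (LinearMap.injective_iff_surjective_of_finrank_eq_finrank
      (Subspace.dual_finrank_eq (K := ℂ) (V := Fin n → ℂ)).symm).1 hΦinj
  let e := LinearEquiv.ofBijective Φ ⟨hΦinj, hΦsurj⟩
  let J₀ : (Fin n → ℂ) →ₛₗ[starRingEnd ℂ] (Fin n → ℂ) :=
    { toFun := fun v => star (e.symm (β v))
      map_add' := fun a b => by rw [map_add, map_add, star_add]
      map_smul' := fun r a => by rw [map_smul, map_smul, star_smul]; rfl }
  have hJ₀ : ∀ v x, h (J₀ v) x = β v x := fun v x => by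
    show Φ (star (star (e.symm (β v)))) x = β v x
    rw [star_star]
    exact LinearMap.congr_fun (e.apply_symm_apply (β v)) x
  have huniq : ∀ u u', (∀ x, h u x = h u' x) → u = u' := fun u u' hx =>
    star_injective (hΦinj (LinearMap.ext hx))
  have hJρ : ∀ g v, J₀ (ρ g v) = ρ g (J₀ v) := by
    intro g v
    refine huniq _ _ fun x => ?_
    obtain ⟨x, rfl⟩ : ∃ y, ρ g y = x := ⟨ρ g⁻¹ x, by
      rw [← Module.End.mul_apply, ← map_mul, mul_inv_cancel, map_one, Module.End.one_apply]⟩
    rw [hhg, hJ₀, hJ₀, hβg]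
  let T : Module.End ℂ (Fin n → ℂ) :=
    { toFun := fun v => J₀ (J₀ v)
      map_add' := fun a b => by rw [map_add, map_add]
      map_smul' := fun r a => by rw [map_smulₛₗ, map_smulₛₗ, Complex.conj_conj]; rfl }
  obtain ⟨d, hd⟩ := CharClifford.exists_scalar_of_commute ρ T fun g =>
    LinearMap.ext fun v => show J₀ (J₀ (ρ g v)) = ρ g (J₀ (J₀ v)) by rw [hJρ, hJρ]
  have hd' : ∀ v, J₀ (J₀ v) = d • v := fun v => LinearMap.congr_fun hd v
  obtain ⟨v₀, hv₀⟩ : ∃ v : Fin n → ℂ, v ≠ 0 := by
    haveI : Nontrivial (Fin n → ℂ) :=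
      Module.nontrivial_of_finrank_pos (CharClifford.finrank_pos_of_irreducible ρ)
    exact exists_ne 0
  obtain ⟨r, hr, hrd⟩ : ∃ r : ℝ, 0 < r ∧ d = (r : ℂ) := by
    have hJne : J₀ v₀ ≠ 0 := by
      intro h0
      apply hv₀
      have hz : ∀ x, v₀ ⬝ᵥ (M *ᵥ x) = 0 := fun x => by
        rw [← hβ, ← hJ₀, h0]
        simp [hh]
      refine dotProduct_eq_zero_iff.1 fun y => ?_
      rw [← Matrix.one_mulVec y, ← Matrix.mul_nonsing_inv M hu, ← Matrix.mulVec_mulVec]
      exact hz _
    obtain ⟨a, ha, hA⟩ := hpos _ hv₀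
    obtain ⟨b, hb, hB⟩ := hpos _ hJne
    have hab : (b : ℂ) = conj d * a := by
      rw [← hB, hJ₀, hβs, ← hJ₀, hd', ← hA]
      simp [hh, map_smul, star_smul, smul_dotProduct, Finset.mul_sum]
    refine ⟨b / a, div_pos hb ha, ?_⟩
    have ha0 : (a : ℂ) ≠ 0 := Complex.ofReal_ne_zero.2 ha.ne'
    rw [Complex.ofReal_div, hab, mul_div_assoc, div_self ha0, mul_one, eq_comm,
      Complex.conj_eq_iff_im]
    have him := congrArg Complex.im hab
    simp [ha.ne'] at him
    exact him
  let s : ℂ := ((Real.sqrt r)⁻¹ : ℝ)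
  refine exists_real_form_of_conjugation ρ (s • J₀) (fun v => ?_) fun g v => ?_
  · show s • J₀ (s • J₀ v) = v
    rw [map_smulₛₗ, hd', smul_smul, smul_smul, hrd, Complex.conj_ofReal]
    simp only [s, ← Complex.ofReal_mul]
    rw [← mul_inv, Real.mul_self_sqrt hr.le, inv_mul_cancel₀ hr.ne', Complex.ofReal_one, one_smul]
  · show s • J₀ (ρ g v) = ρ g (s • J₀ v)
    rw [hJρ, map_smul]

end Cfsg.Agent.CharInd
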