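import Cfsg.Agent.Lib.CharInd.DefectZero

/-!
# `p^a χ` on the `p`-regular elements is a generalized character
-/

set_option autoImplicit false

open scoped ComplexConjugate
open Cfsg

namespace Cfsg.Agent.CharInd

universe u

/-- A class function vanishing on `p`-singular elements that is `|G|_p` times a generalized
character on `p`-regular elements is a generalized character. -/
theorem isGeneralizedCharacter_regularPart {G : Type u} [Group G] [Fintype G] {χ : G → ℂ}
    (hχ : IsGeneralizedCharacter G χ) (p : ℕ) [Fact p.Prime] :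
    IsGeneralizedCharacter G (fun x : G => if p ∣ orderOf x then 0
      else ((p ^ (Nat.card G).factorization p : ℕ) : ℂ) * χ x) := by
  classical
  set a := (Nat.card G).factorization p with ha
  have hχcl := CharCore.IsGeneralizedCharacter.isClassFunction hχ
  set θ : G → ℂ := fun x => if p ∣ orderOf x then 0 else ((p ^ a : ℕ) : ℂ) * χ x with hθ
  have hθcl : IsClassFunction G θ := by
    intro g h
    have : orderOf (h * g * h⁻¹) = orderOf g := by simpa using (MulAut.conj h).orderOf_eq g
    simp only [hθ, this, hχcl g h]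
  refine isGeneralizedCharacter_of_elementary hθcl fun E q hq hel => ?_
  haveI := isNilpotent_of_isElementary hq hel
  haveI : Fintype E := Fintype.ofFinite _
  obtain ⟨P, Q, hPQ, hQ, -⟩ := exists_regular_subgroup (E := E) p
  haveI : Fintype Q := Fintype.ofFinite _
  rw [CharCore.isGeneralizedCharacter_iff]
  refine ⟨fun x y => hθcl x y, fun φ => ?_⟩
  have hsum : ∑ y : E, θ (y : G) * conj ((φ : E → ℂ) y)
      = ((p ^ a : ℕ) : ℂ) * ∑ y : Q, χ ((y : E) : G) * conj ((φ : E → ℂ) y) := by
    rw [Finset.mul_sum, ← Finset.sum_subset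
      (Finset.subset_univ (Finset.univ.filter fun y : E => y ∈ Q))
      (fun y _ hy => by
        have hy' : p ∣ orderOf y := not_not.1 fun h => hy (by simpa using (hQ y).2 h)
        simp [hθ, Subgroup.orderOf_coe, hy'])]
    rw [Finset.sum_subtype (p := fun y => y ∈ Q) _ (fun y => by simp)]
    refine Finset.sum_congr rfl fun y _ => ?_
    have hy' : ¬ p ∣ orderOf (y : E) := (hQ y).1 y.2
    show (if p ∣ orderOf ((y : E) : G) then (0 : ℂ) else _) * _ = _
    rw [Subgroup.orderOf_coe, if_neg hy', mul_assoc]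
  obtain ⟨k, hk⟩ := CharCore.IsGeneralizedCharacter.exists_classInner_eq_intCast
    (CharCore.isGeneralized_restrict (CharCore.isGeneralized_restrict hχ E) Q)
    (CharCore.isGeneralized_restrict (CharCore.irr_isGeneralized φ) Q)
  obtain ⟨j, hj⟩ := P.isPGroup'.exists_card_eq
  have hja : j ≤ a := by
    refine (Nat.Prime.pow_dvd_iff_le_factorization Fact.out Nat.card_pos.ne').1 ?_
    rw [← hj]
    exact (Subgroup.card_subgroup_dvd_card _).trans (Subgroup.card_subgroup_dvd_card E)
  obtain ⟨t, hat⟩ : ∃ t, a = j + t := ⟨a - j, by omega⟩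
  refine ⟨(p : ℤ) ^ t * k, ?_⟩
  have hS : ∑ y : Q, χ ((y : E) : G) * conj ((φ : E → ℂ) y) = (Nat.card Q : ℂ) * k := by
    rw [← hk, Cfsg.classInner, mul_inv_cancel_left₀ (Nat.cast_ne_zero.2 Nat.card_pos.ne')]
  rw [Cfsg.classInner, hsum, hS, ← hPQ, hj, hat]
  have hp0 : (p : ℂ) ≠ 0 := Nat.cast_ne_zero.2 (Fact.out : p.Prime).ne_zero
  have hQ0 : (Nat.card Q : ℂ) ≠ 0 := Nat.cast_ne_zero.2 Nat.card_pos.ne'
  push_cast [pow_add]
  field_simp

end Cfsg.Agent.CharInd
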