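import Cfsg.Agent.Lib.CharInd.Basic
import Cfsg.Agent.Lib.CharInd.Elementary
import Mathlib.GroupTheory.Sylow
import Mathlib.GroupTheory.GroupAction.Quotient

/-!
# Solomon's theorem: `1` is an integral combination of permutation characters induced from
quasi-elementary subgroups.
-/

set_option autoImplicit false

open Cfsg

namespace Cfsg.Agent.CharInd

universe u v

variable {G : Type u} [Group G] [Fintype G]

/-- The span of the `Ind_H 1` with `H` quasi-elementary. -/
noncomputable def permSpan (G : Type u) [Group G] [Fintype G] : AddSubgroup (G → ℂ) :=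
  AddSubgroup.closure
    {f | ∃ (H : Subgroup G) (p : ℕ), p.Prime ∧ IsQuasiElem p H ∧ f = indFun H (fun _ => 1)}

theorem indFun_one_mem_permSpan {H : Subgroup G} {p : ℕ} (hp : p.Prime) (h : IsQuasiElem p H) :
    indFun H (fun _ => (1 : ℂ)) ∈ permSpan G :=
  AddSubgroup.subset_closure ⟨H, p, hp, h, rfl⟩

/-- `Ind_H 1` evaluated at `g`, as a count. -/
theorem indFun_const_one_eq_card (H : Subgroup G) (g : G) :
    indFun H (fun _ => (1 : ℂ)) g
      = (Nat.card H : ℂ)⁻¹ * (Nat.card {y : G // y⁻¹ * g * y ∈ H} : ℂ) := by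
  classical
  rw [indFun_apply, Nat.card_eq_fintype_card (α := {y : G // y⁻¹ * g * y ∈ H}), Fintype.card_subtype,
    Finset.natCast_card_filter]
  congr 1
  refine Finset.sum_congr rfl fun y _ => ?_
  by_cases hy : y⁻¹ * g * y ∈ H
  · rw [extendByZero_mem _ hy, if_pos hy]
  · rw [extendByZero_notMem _ hy, if_neg hy]

theorem permSpan_integer {f : G → ℂ} (hf : f ∈ permSpan G) (g : G) : ∃ n : ℤ, f g = n := by
  refine AddSubgroup.closure_induction (p := fun (f : G → ℂ) _ => ∃ n : ℤ, f g = (n : ℂ)) ?_ ?_ ?_ ?_ hf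
  · rintro _ ⟨H, p, -, -, rfl⟩
    exact ⟨(Nat.card (MulAction.fixedBy (G ⧸ H) g) : ℤ), by
      rw [indFun_one_eq_fixedBy, Int.cast_natCast]⟩
  · exact ⟨0, by simp⟩
  · rintro x y _ _ ⟨a, ha⟩ ⟨b, hb⟩
    exact ⟨a + b, by simp [ha, hb]⟩
  · rintro x _ ⟨a, ha⟩
    exact ⟨-a, by simp [ha]⟩

/-- A permutation character is a sum of characters induced from stabilisers. -/
theorem fix_mem_permSpan {X : Type v} [MulAction G X] [Finite X]
    (hq : ∀ x : X, ∃ p : ℕ, p.Prime ∧ IsQuasiElem p (MulAction.stabilizer G x)) :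
    (fun g : G => (Nat.card (MulAction.fixedBy X g) : ℂ)) ∈ permSpan G := by
  classical
  haveI := Fintype.ofFinite X
  let S : X → G → ℂ := fun x => indFun (MulAction.stabilizer G x) (fun _ => 1)
  let F : X → G → ℂ := fun x g => (Nat.card {y : G // g • (y • x) = y • x} : ℂ)
  have hS : ∀ x g, S x g = (Nat.card (MulAction.stabilizer G x) : ℂ)⁻¹ * F x g := by
    intro x g
    simp only [S, F, indFun_const_one_eq_card, MulAction.mem_stabilizer_iff, mul_smul,
      inv_smul_eq_iff]
  have hinv : ∀ (a : G) x g, F (a • x) g = F x g := by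
    intro a x g
    simp only [F]
    congr 1
    refine Nat.card_congr ((Equiv.mulRight a).subtypeEquiv fun y => ?_)
    simp [mul_smul]
  have hcst : ∀ (a : G) x, S (a • x) = S x := by
    intro a x
    funext g
    rw [hS, hS, hinv]
    congr 2
    have h1 := Nat.card_congr (MulAction.orbitProdStabilizerEquivGroup G (a • x))
    have h2 := Nat.card_congr (MulAction.orbitProdStabilizerEquivGroup G x)
    rw [Nat.card_prod, MulAction.orbit_smul] at h1
    rw [Nat.card_prod, ← h1] at h2
    haveI : Nonempty (MulAction.orbit G x) := ⟨⟨x, MulAction.mem_orbit_self x⟩⟩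
    exact_mod_cast (Nat.eq_of_mul_eq_mul_left Nat.card_pos h2).symm
  let rep : MulAction.orbitRel.Quotient G X → X := Quotient.out
  haveI := Fintype.ofFinite (MulAction.orbitRel.Quotient G X)
  suffices h : (fun g : G => (Nat.card (MulAction.fixedBy X g) : ℂ))
      = ∑ Ω : MulAction.orbitRel.Quotient G X, S (rep Ω) by
    rw [h]
    refine AddSubgroup.sum_mem _ fun Ω _ => ?_
    obtain ⟨p, hp, hqe⟩ := hq (rep Ω)
    exact indFun_one_mem_permSpan hp hqe
  funext g
  have h1 : ∀ y : G, (Nat.card (MulAction.fixedBy X g) : ℂ)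
      = ∑ x : X, if g • (y • x) = y • x then (1 : ℂ) else 0 := by
    intro y
    rw [show MulAction.fixedBy X g = {x | g • x = x} from rfl, Nat.card_eq_fintype_card,
      Fintype.card_subtype, Finset.natCast_card_filter]
    exact (Fintype.sum_equiv (MulAction.toPerm y) _ _ fun x => rfl).symm
  have h2 : (Nat.card G : ℂ) * (Nat.card (MulAction.fixedBy X g) : ℂ) = ∑ x : X, F x g := by
    calc (Nat.card G : ℂ) * (Nat.card (MulAction.fixedBy X g) : ℂ)
        = ∑ y : G, (Nat.card (MulAction.fixedBy X g) : ℂ) := by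
          rw [Finset.sum_const, Finset.card_univ, nsmul_eq_mul, Nat.card_eq_fintype_card]
      _ = ∑ y : G, ∑ x : X, if g • (y • x) = y • x then (1 : ℂ) else 0 :=
          Finset.sum_congr rfl fun y _ => h1 y
      _ = _ := by
          rw [Finset.sum_comm]
          refine Finset.sum_congr rfl fun x _ => ?_
          simp only [F, Nat.card_eq_fintype_card (α := {y : G // g • (y • x) = y • x}),
            Fintype.card_subtype, Finset.natCast_card_filter]
  rw [Finset.sum_apply]
  refine mul_left_cancel₀ ((Nat.cast_ne_zero (R := ℂ)).2 (Nat.card_pos (α := G)).ne') ?_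
  rw [h2, Finset.mul_sum, ← Finset.sum_fiberwise_of_maps_to (t := Finset.univ)
    (g := fun x : X => (Quotient.mk'' x : MulAction.orbitRel.Quotient G X))
    (fun x _ => Finset.mem_univ _)]
  refine Finset.sum_congr rfl fun Ω _ => ?_
  have hout : (Quotient.mk'' (rep Ω) : MulAction.orbitRel.Quotient G X) = Ω := Quotient.out_eq' Ω
  have hF : ∀ x : X, (Quotient.mk'' x : MulAction.orbitRel.Quotient G X) = Ω →
      F x g = F (rep Ω) g := by
    intro x hx
    obtain ⟨a, rfl⟩ := (Quotient.eq''.1 (hx.trans hout.symm) : MulAction.orbitRel G X _ _)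
    exact hinv a _ g
  rw [Finset.sum_congr rfl fun x hx => hF x (Finset.mem_filter.1 hx).2, Finset.sum_const,
    nsmul_eq_mul, hS]
  have hcard : (Finset.univ.filter fun x : X =>
      (Quotient.mk'' x : MulAction.orbitRel.Quotient G X) = Ω).card
      = Nat.card (MulAction.orbit G (rep Ω)) := by
    rw [← Nat.card_eq_finsetCard]
    refine Nat.card_congr (Equiv.subtypeEquivRight fun x => ?_)
    rw [Finset.mem_filter]
    constructor
    · rintro ⟨-, hx⟩
      exact (Quotient.eq''.1 (hx.trans hout.symm) : MulAction.orbitRel G X _ _)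
    · intro hx
      exact ⟨Finset.mem_univ _, (Quotient.eq''.2 (by exact hx)).trans hout⟩
  have h3 := Nat.card_congr (MulAction.orbitProdStabilizerEquivGroup G (rep Ω))
  rw [Nat.card_prod] at h3
  rw [hcard, ← h3, Nat.cast_mul, mul_assoc, ← mul_assoc (Nat.card (MulAction.stabilizer G _) : ℂ),
    mul_inv_cancel₀ (Nat.cast_ne_zero.2 Nat.card_pos.ne'), one_mul]

theorem mul_mem_permSpan {f f' : G → ℂ} (hf : f ∈ permSpan G) (hf' : f' ∈ permSpan G) :
    f * f' ∈ permSpan G := by
  refine AddSubgroup.closure_induction (p := fun f _ => f * f' ∈ permSpan G) ?_ ?_ ?_ ?_ hf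
  · rintro _ ⟨H, p, hp, hH, rfl⟩
    refine AddSubgroup.closure_induction
      (p := fun f' _ => indFun H (fun _ => (1 : ℂ)) * f' ∈ permSpan G) ?_ ?_ ?_ ?_ hf'
    · rintro _ ⟨K, q, -, -, rfl⟩
      have h : indFun H (fun _ => (1 : ℂ)) * indFun K (fun _ => (1 : ℂ))
          = fun g : G => (Nat.card (MulAction.fixedBy ((G ⧸ H) × (G ⧸ K)) g) : ℂ) := by
        funext g
        rw [Pi.mul_apply, indFun_one_eq_fixedBy, indFun_one_eq_fixedBy, ← Nat.cast_mul,
          ← Nat.card_prod]
        congr 1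
        refine Nat.card_congr ((Equiv.Set.prod _ _).symm.trans (Equiv.subtypeEquivRight ?_))
        rintro ⟨a, b⟩
        simp [MulAction.fixedBy]
      rw [h]
      refine fix_mem_permSpan fun x => ⟨p, hp, ?_⟩
      obtain ⟨a, ha⟩ := QuotientGroup.mk_surjective x.1
      refine isQuasiElem_of_injective hp
        (((MulAut.conj a⁻¹).toMonoidHom.comp (MulAction.stabilizer G x).subtype).codRestrict H
          fun s => ?_) ?_ hH
      · have hs : (s : G) • x.1 = x.1 := congrArg Prod.fst s.2
        rw [← ha, MulAction.Quotient.smul_mk, smul_eq_mul, eq_comm, QuotientGroup.eq,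
          ← mul_assoc] at hs
        simpa using hs
      · intro s t hst
        exact Subtype.ext ((MulAut.conj a⁻¹).injective (congrArg Subtype.val hst))
    · simp
    · intro x y _ _ hx hy
      rw [mul_add]; exact AddSubgroup.add_mem _ hx hy
    · intro x _ hx
      rw [mul_neg]; exact AddSubgroup.neg_mem _ hx
  · simp
  · intro x y _ _ hx hy
    rw [add_mul]; exact AddSubgroup.add_mem _ hx hy
  · intro x _ hx
    rw [neg_mul]; exact AddSubgroup.neg_mem _ hx

/-- The number of fixed points of a `p`-element on a set of order prime to `p`. -/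
theorem exists_permSpan_not_dvd {p : ℕ} (hp : p.Prime) (g : G) :
    ∃ f ∈ permSpan G, ∃ n : ℤ, f g = n ∧ ¬ (p : ℤ) ∣ n := by
  classical
  haveI : Fact p.Prime := ⟨hp⟩
  obtain ⟨a, r, hpr, hm⟩ :=
    Nat.exists_eq_pow_mul_and_not_dvd (orderOf_pos g).ne' p hp.ne_one
  set u : G := g ^ (p ^ a) with hu
  set C : Subgroup G := Subgroup.zpowers u with hC
  have hcu : orderOf u = r := by
    rw [hu, orderOf_pow_of_dvd (pow_ne_zero a hp.ne_zero) (hm ▸ dvd_mul_right _ _), hm,
      Nat.mul_div_cancel_left _ (pow_pos hp.pos a)]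
  have hCcop : Nat.Coprime (Nat.card C) p := by
    rw [hC, Nat.card_zpowers, hcu]
    exact ((Nat.Prime.coprime_iff_not_dvd hp).2 hpr).symm
  set N : Subgroup G := Subgroup.normalizer (C : Set G) with hN
  have hgN : g ∈ N := by
    rw [hN, Subgroup.mem_normalizer_iff]
    have hc : ∀ x ∈ C, g * x * g⁻¹ = x := by
      intro x hx
      obtain ⟨i, rfl⟩ := Subgroup.mem_zpowers_iff.1 hx
      rw [(((Commute.refl g).pow_right (p ^ a)).zpow_right i).eq, mul_inv_cancel_right]
    intro x
    constructor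
    · intro hx; rw [hc x hx]; exact hx
    · intro hx
      have : g * x * g⁻¹ = g * (g * x * g⁻¹) * g⁻¹ := (hc _ hx).symm
      have := mul_left_cancel (mul_right_cancel this)
      rwa [← this] at hx
  set C' : Subgroup N := C.subgroupOf N with hC'
  haveI : C'.Normal := Subgroup.normal_in_normalizer
  set π : N →* N ⧸ C' := QuotientGroup.mk' C' with hπ
  set σ : N ⧸ C' := π ⟨g, hgN⟩ with hσ
  have hσp : σ ^ (p ^ a) = 1 := by
    rw [hσ, ← map_pow, hπ, QuotientGroup.mk'_apply, QuotientGroup.eq_one_iff]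
    exact Subgroup.mem_zpowers u
  have hσP : IsPGroup p (Subgroup.zpowers σ) := by
    have hd : Nat.card (Subgroup.zpowers σ) ∣ p ^ a := by
      rw [Nat.card_zpowers]; exact orderOf_dvd_of_pow_eq_one hσp
    obtain ⟨j, -, hj⟩ := (Nat.dvd_prime_pow hp).1 hd
    exact IsPGroup.of_card hj
  obtain ⟨P, hP⟩ := hσP.exists_le_sylow
  set H' : Subgroup N := (P : Subgroup (N ⧸ C')).comap π with hH'
  set H : Subgroup G := H'.map N.subtype with hH
  have hker : C' ≤ H' := by
    intro x hx
    show π x ∈ (P : Subgroup (N ⧸ C'))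
    rw [hπ, QuotientGroup.mk'_apply, (QuotientGroup.eq_one_iff x).2 hx]
    exact one_mem _
  have hCN : C ≤ N := Subgroup.le_normalizer
  have hCH : C ≤ H := fun x hx => ⟨⟨x, hCN hx⟩, hker (show (⟨x, hCN hx⟩ : N) ∈ C' from hx), rfl⟩
  have hCnormH : (C.subgroupOf H).Normal :=
    (Subgroup.normal_subgroupOf_iff_le_normalizer hCH).2 (Subgroup.map_subtype_le H')
  obtain ⟨j, hPj⟩ := P.isPGroup'.exists_card_eq
  -- every element of `H` has its `p^j`-th power in `C`
  have hpowH : ∀ x ∈ H, x ^ (p ^ j) ∈ C := by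
    rintro _ ⟨y, hy, rfl⟩
    have h1 : (⟨π y, hy⟩ : (P : Subgroup (N ⧸ C'))) ^ (p ^ j) = 1 := by
      rw [← hPj]; exact pow_card_eq_one'
    have h2 : π (y ^ (p ^ j)) = 1 := by rw [map_pow]; exact congrArg Subtype.val h1
    exact (QuotientGroup.eq_one_iff (y ^ (p ^ j))).1 h2
  have hqe : IsQuasiElem p H := by
    refine ⟨C.subgroupOf H, hCnormH, ?_, ?_, ?_⟩
    · exact isCyclic_of_injective (Subgroup.subgroupOfEquivOfLe hCH).toMonoidHom
        (Subgroup.subgroupOfEquivOfLe hCH).injective
    · rwa [Nat.card_congr (Subgroup.subgroupOfEquivOfLe hCH).toEquiv]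
    · refine ⟨j, ?_⟩
      have e1 : Nat.card H = Nat.card H' :=
        Nat.card_congr (H'.equivMapOfInjective N.subtype N.subtype_injective).toEquiv.symm
      have e2 := (C.subgroupOf H).index_mul_card
      have e3 := (C'.subgroupOf H').index_mul_card
      have e4 : (C'.subgroupOf H').index = p ^ j := by
        rw [← hPj]
        let φ : H' →* (P : Subgroup (N ⧸ C')) :=
          (π.comp H'.subtype).codRestrict _ fun x => x.2
        have hφ : Function.Surjective φ := by
          rintro ⟨y, hy⟩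
          obtain ⟨x, rfl⟩ := QuotientGroup.mk'_surjective C' y
          exact ⟨⟨x, hy⟩, rfl⟩
        have hk : φ.ker = C'.subgroupOf H' := by
          ext x
          rw [MonoidHom.mem_ker, Subgroup.mem_subgroupOf, Subtype.ext_iff]
          exact QuotientGroup.eq_one_iff _
        rw [← hk, Subgroup.index_ker, MonoidHom.range_eq_top.2 hφ,
          Nat.card_congr Subgroup.topEquiv.toEquiv]
      have e5 : Nat.card (C'.subgroupOf H') = Nat.card (C.subgroupOf H) := by
        rw [Nat.card_congr (Subgroup.subgroupOfEquivOfLe hker).toEquiv,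
          Nat.card_congr (Subgroup.subgroupOfEquivOfLe hCH).toEquiv,
          Nat.card_congr (Subgroup.subgroupOfEquivOfLe hCN).toEquiv]
      rw [← e4]
      rw [← e5, e1, ← e3] at e2
      exact Nat.eq_of_mul_eq_mul_right Nat.card_pos e2
  refine ⟨indFun H (fun _ => 1), indFun_one_mem_permSpan hp hqe,
    (Nat.card (MulAction.fixedBy (G ⧸ H) g) : ℤ), by
      rw [indFun_one_eq_fixedBy, Int.cast_natCast], ?_⟩
  -- fixed points of `g` on `G ⧸ H` are those of `σ` on `(N ⧸ C') ⧸ P`
  have hconj : ∀ x : G, x⁻¹ * g * x ∈ H → x ∈ N := by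
    intro x hx
    have hux : x⁻¹ * u * x ∈ H := by
      have := H.pow_mem hx (p ^ a)
      have hc : (x⁻¹ * g * x⁻¹⁻¹) ^ (p ^ a) = x⁻¹ * u * x⁻¹⁻¹ := conj_pow
      rw [inv_inv] at hc
      rwa [hc] at this
    have hord : orderOf (x⁻¹ * u * x) = r := by
      rw [← hcu]
      simpa using (MulAut.conj x⁻¹).orderOf_eq u
    have hmem : x⁻¹ * u * x ∈ C := by
      have h1 := hpowH _ hux
      have hcop : Nat.Coprime (orderOf (x⁻¹ * u * x)) (p ^ j) := by
        rw [hord]
        exact (((Nat.Prime.coprime_iff_not_dvd hp).2 hpr).symm).pow_right j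
      obtain ⟨m, hm'⟩ := exists_pow_eq_self_of_coprime hcop.symm
      rw [← hm']
      exact C.pow_mem h1 m
    have hle : Subgroup.zpowers (x⁻¹ * u * x) = C := by
      refine Subgroup.eq_of_le_of_card_ge (Subgroup.zpowers_le.2 hmem) (le_of_eq ?_)
      rw [hC, Nat.card_zpowers, Nat.card_zpowers, hord, hcu]
    have hxN : x⁻¹ ∈ N := by
      rw [hN]
      refine Subgroup.mem_normalizer_fintype fun y hy => ?_
      obtain ⟨i, rfl⟩ := Subgroup.mem_zpowers_iff.1 hy
      rw [inv_inv, ← hle, SetLike.mem_coe, Subgroup.mem_zpowers_iff]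
      refine ⟨i, ?_⟩
      have hc : (x⁻¹ * u * x⁻¹⁻¹) ^ i = x⁻¹ * u ^ i * x⁻¹⁻¹ := conj_zpow
      rwa [inv_inv] at hc
    simpa using N.inv_mem hxN
  have hbij : Nat.card (MulAction.fixedBy (G ⧸ H) g)
      = Nat.card (MulAction.fixedBy ((N ⧸ C') ⧸ (P : Subgroup (N ⧸ C'))) σ) := by
    let φ : N ⧸ H' → G ⧸ H := Quotient.map' (fun n : N => (n : G)) fun a b hab => by
      rw [QuotientGroup.leftRel_apply] at hab ⊢
      exact ⟨_, hab, by simp⟩
    let ψ : N ⧸ H' → (N ⧸ C') ⧸ (P : Subgroup (N ⧸ C')) :=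
      Quotient.map' (fun n : N => π n) fun a b hab => by
        rw [QuotientGroup.leftRel_apply] at hab ⊢
        rw [← map_inv, ← map_mul]
        exact hab
    have hφ : ∀ q q' : N ⧸ H', φ q = φ q' → q = q' := by
      intro q q'
      induction q using QuotientGroup.induction_on with | _ a =>
      induction q' using QuotientGroup.induction_on with | _ b =>
      intro h
      have h' : ((a : G) : G ⧸ H) = ((b : G) : G ⧸ H) := h
      rw [QuotientGroup.eq] at h' ⊢
      obtain ⟨y, hy, hy'⟩ := h'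
      rwa [show y = a⁻¹ * b from Subtype.ext hy'] at hy
    have hψ : Function.Bijective ψ := by
      constructor
      · intro q q'
        induction q using QuotientGroup.induction_on with | _ a =>
        induction q' using QuotientGroup.induction_on with | _ b =>
        intro h
        have h' : ((π a : N ⧸ C') : (N ⧸ C') ⧸ (P : Subgroup (N ⧸ C')))
            = ((π b : N ⧸ C') : (N ⧸ C') ⧸ (P : Subgroup (N ⧸ C'))) := h
        rw [QuotientGroup.eq, ← map_inv, ← map_mul] at h'
        exact QuotientGroup.eq.2 h'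
      · intro q
        induction q using QuotientGroup.induction_on with | _ a =>
        obtain ⟨n, rfl⟩ := QuotientGroup.mk'_surjective C' a
        exact ⟨(n : N ⧸ H'), rfl⟩
    let n₀ : N := ⟨g, hgN⟩
    have hφs : ∀ q, φ (n₀ • q) = g • φ q := by
      intro q
      induction q using QuotientGroup.induction_on with | _ a =>
      rfl
    have hψs : ∀ q, ψ (n₀ • q) = σ • ψ q := by
      intro q
      induction q using QuotientGroup.induction_on with | _ a =>
      exact congrArg QuotientGroup.mk (map_mul π n₀ a)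
    have e1 : Nat.card (MulAction.fixedBy (N ⧸ H') n₀)
        = Nat.card (MulAction.fixedBy (G ⧸ H) g) := by
      refine Nat.card_eq_of_bijective (fun q => ⟨φ q.1, ?_⟩) ⟨?_, ?_⟩
      · show g • φ q.1 = φ q.1
        rw [← hφs]
        exact congrArg φ q.2
      · intro q q' h
        exact Subtype.ext (hφ _ _ (congrArg Subtype.val h))
      · rintro ⟨q, hq⟩
        obtain ⟨x, rfl⟩ := QuotientGroup.mk_surjective q
        have hx : x⁻¹ * g * x ∈ H := by
          rw [mul_assoc, ← QuotientGroup.eq]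
          exact hq.symm
        refine ⟨⟨((⟨x, hconj x hx⟩ : N) : N ⧸ H'), ?_⟩, Subtype.ext rfl⟩
        apply hφ
        rw [hφs]
        exact hq
    rw [← e1]
    refine Nat.card_congr ((Equiv.ofBijective ψ hψ).subtypeEquiv fun q => ?_)
    show n₀ • q = q ↔ σ • ψ q = ψ q
    rw [← hψs]
    exact hψ.1.eq_iff.symm
  rw [hbij, Int.natCast_dvd_natCast]
  intro hdvd
  have hmod := hσP.card_modEq_card_fixedPoints ((N ⧸ C') ⧸ (P : Subgroup (N ⧸ C')))
  have hfp : MulAction.fixedPoints (Subgroup.zpowers σ) ((N ⧸ C') ⧸ (P : Subgroup (N ⧸ C')))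
      = MulAction.fixedBy ((N ⧸ C') ⧸ (P : Subgroup (N ⧸ C'))) σ := by
    ext q
    constructor
    · intro h
      exact h ⟨σ, Subgroup.mem_zpowers σ⟩
    · rintro h ⟨t, ht⟩
      have hle : Subgroup.zpowers σ ≤ MulAction.stabilizer (N ⧸ C') q :=
        Subgroup.zpowers_le.2 h
      exact hle ht
  rw [hfp] at hmod
  have hP' : ¬ p ∣ (P : Subgroup (N ⧸ C')).index := P.not_dvd_index
  apply hP'
  have := (Nat.ModEq.dvd_iff hmod dvd_rfl).2 hdvd
  exact this

/-- **Solomon's theorem.** -/
theorem one_mem_permSpan : (1 : G → ℂ) ∈ permSpan G := by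
  classical
  have hg : ∀ g : G, ∃ f ∈ permSpan G, f g = 1 := by
    intro g
    let S : AddSubgroup ℤ :=
      { carrier := {n | ∃ f ∈ permSpan G, f g = (n : ℂ)}
        zero_mem' := ⟨0, AddSubgroup.zero_mem _, by simp⟩
        add_mem' := by
          rintro a b ⟨f, hf, ha⟩ ⟨f', hf', hb⟩
          exact ⟨f + f', AddSubgroup.add_mem _ hf hf', by simp [ha, hb]⟩
        neg_mem' := by
          rintro a ⟨f, hf, ha⟩
          exact ⟨-f, AddSubgroup.neg_mem _ hf, by simp [ha]⟩ }
    obtain ⟨d, hd⟩ := Int.subgroup_cyclic S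
    rw [← AddSubgroup.zmultiples_eq_closure] at hd
    by_cases h1 : d.natAbs = 1
    · have : (1 : ℤ) ∈ S := by
        rw [hd, Int.mem_zmultiples_iff, ← Int.natAbs_dvd, h1]; rfl
      obtain ⟨f, hf, hf1⟩ := this
      exact ⟨f, hf, by simpa using hf1⟩
    · obtain ⟨p, hp, hpd⟩ := Nat.exists_prime_and_dvd h1
      obtain ⟨f, hf, n, hn, hndvd⟩ := exists_permSpan_not_dvd hp g
      have hmem : n ∈ S := ⟨f, hf, hn⟩
      rw [hd, Int.mem_zmultiples_iff] at hmem
      exact absurd ((Int.natCast_dvd.2 hpd).trans hmem) hndvd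
  have hs : ∀ s : Finset G, ∃ r ∈ permSpan G, ∀ g ∈ s, r g = 1 := by
    intro s
    induction s using Finset.induction_on with
    | empty => exact ⟨0, AddSubgroup.zero_mem _, by simp⟩
    | insert a s _ ih =>
      obtain ⟨r, hr, hrs⟩ := ih
      obtain ⟨f, hf, hfa⟩ := hg a
      refine ⟨r + f - r * f,
        AddSubgroup.sub_mem _ (AddSubgroup.add_mem _ hr hf) (mul_mem_permSpan hr hf), ?_⟩
      intro x hx
      rcases Finset.mem_insert.1 hx with rfl | hx
      · simp [hfa]
      · simp [hrs x hx]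
  obtain ⟨r, hr, h1⟩ := hs Finset.univ
  rwa [show (1 : G → ℂ) = r from funext fun g => (h1 g (Finset.mem_univ g)).symm]

end Cfsg.Agent.CharInd
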