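import Cfsg.Agent.Lib.CharInd.Brauer
import Cfsg.Agent.Lib.CharCore.Complete
import Mathlib.RingTheory.RootsOfUnity.Complex
import Mathlib.FieldTheory.IntermediateField.Adjoin.Algebra

/-!
# Brauer's splitting field theorem
-/

set_option autoImplicit false

open scoped ComplexConjugate
open Cfsg Module

namespace Cfsg.Agent.CharInd

universe u v

variable {G : Type u} [Group G] [Fintype G] (K : IntermediateField ℚ ℂ)

/-- `f` is the character of a representation defined over the subfield `K`. -/
def IsSubfieldChar (f : G → ℂ) : Prop :=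
  ∃ (n : ℕ) (T : Representation K G (Fin n → K)), f = fun g => (T.character g : ℂ)

variable {K}

omit [Fintype G] in
theorem isSubfieldChar_of_rep {V : Type v} [AddCommGroup V] [Module K V] [FiniteDimensional K V]
    (T : Representation K G V) : IsSubfieldChar K fun g => (T.character g : ℂ) := by
  let e : V ≃ₗ[K] (Fin (Module.finrank K V) → K) := (Module.finBasis K V).equivFun
  refine ⟨Module.finrank K V,
    { toFun := fun g => e.conj (T g), map_one' := ?_, map_mul' := ?_ }, ?_⟩
  · simp [Module.End.one_eq_id]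
  · intro g h
    simp [map_mul, Module.End.mul_eq_comp, LinearEquiv.conj_comp]
  · funext g
    congr 1
    exact (LinearMap.trace_conj' (T g) e).symm

omit [Fintype G] in
theorem IsSubfieldChar.isCharacter {f : G → ℂ} (hf : IsSubfieldChar K f) : IsCharacter G f := by
  obtain ⟨n, T, rfl⟩ := hf
  let m : Module.End K (Fin n → K) →* Module.End ℂ (Fin n → ℂ) :=
    (Matrix.toLinAlgEquiv' : Matrix (Fin n) (Fin n) ℂ ≃ₐ[ℂ] _).toMonoidHom.comp
      ((((algebraMap K ℂ).mapMatrix : Matrix (Fin n) (Fin n) K →+* _).toMonoidHom).comp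
        (LinearMap.toMatrixAlgEquiv' : _ ≃ₐ[K] Matrix (Fin n) (Fin n) K).toMonoidHom)
  refine ⟨n, m.comp T, ?_⟩
  funext g
  show LinearMap.trace ℂ (Fin n → ℂ) (Matrix.toLin' ((LinearMap.toMatrix' (T g)).map
    (algebraMap K ℂ))) = algebraMap K ℂ (LinearMap.trace K (Fin n → K) (T g))
  rw [Matrix.trace_toLin'_eq, LinearMap.trace_eq_matrix_trace K (Pi.basisFun K (Fin n)),
    ← LinearMap.toMatrix_eq_toMatrix']
  exact (AddMonoidHom.map_trace (algebraMap K ℂ).toAddMonoidHom _).symm

omit [Fintype G] in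
theorem IsSubfieldChar.add {f f' : G → ℂ} (hf : IsSubfieldChar K f) (hf' : IsSubfieldChar K f') :
    IsSubfieldChar K (f + f') := by
  obtain ⟨n, T, rfl⟩ := hf
  obtain ⟨m, T', rfl⟩ := hf'
  have h := isSubfieldChar_of_rep (T.prod T')
  convert h using 1
  funext g
  show (T.character g : ℂ) + T'.character g = ((T.prod T').character g : K)
  rw [← IntermediateField.coe_add]
  congr 1
  exact (LinearMap.trace_prodMap' (T g) (T' g)).symm

omit [Fintype G] in
theorem isSubfieldChar_zero : IsSubfieldChar K (0 : G → ℂ) := by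
  refine ⟨0, Representation.trivial K G _, ?_⟩
  funext g
  simp [Representation.character]

theorem classInner_subfieldChar {V W : Type} [AddCommGroup V] [Module K V] [FiniteDimensional K V]
    [AddCommGroup W] [Module K W] [FiniteDimensional K W]
    (T : Representation K G V) (S : Representation K G W) :
    classInner (fun g => (T.character g : ℂ)) (fun g => (S.character g : ℂ))
      = (Module.finrank K (Representation.IntertwiningMap S T) : ℂ) := by
  haveI : Invertible (Nat.card G : K) := invertibleOfNonzero (Nat.cast_ne_zero.2 Nat.card_pos.ne')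
  rw [CharCore.classInner_eq_inv _ (isSubfieldChar_of_rep S).isCharacter]
  have h := congrArg (algebraMap K ℂ) (S.card_inv_mul_sum_char_mul_char_eq_finrank T)
  simpa only [map_mul, map_inv₀, map_natCast, map_sum] using! h

/-- Induction over subrepresentations. -/
theorem subfield_rep_induction {P : (G → ℂ) → Prop} (h0 : P 0)
    (hadd : ∀ f f', IsSubfieldChar K f → IsSubfieldChar K f' → P f → P f' → P (f + f'))
    (hirr : ∀ (V : Type) [AddCommGroup V] [Module K V] [FiniteDimensional K V]
      (T : Representation K G V), T.IsIrreducible → P fun g => (T.character g : ℂ))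
    {f : G → ℂ} (hf : IsSubfieldChar K f) : P f := by
  obtain ⟨n₀, T₀, rfl⟩ := hf
  suffices H : ∀ (n : ℕ) (V : Type) [AddCommGroup V] [Module K V] [FiniteDimensional K V]
      (T : Representation K G V), Module.finrank K V = n → P fun g => (T.character g : ℂ) from
    H _ _ T₀ rfl
  intro n
  induction n using Nat.strong_induction_on with
  | _ n ih =>
    intro V _ _ _ T hn
    by_cases hT : T.IsIrreducible
    · exact hirr V T hT
    by_cases hsub : Subsingleton V
    · rw [show (fun g => (T.character g : ℂ)) = 0 from funext fun g => by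
        simp [Representation.character, Subsingleton.elim (T g) 0]]
      exact h0
    have hne : (⊥ : Subrepresentation T) ≠ ⊤ := fun he => hsub <| by
      have h' : (⊥ : Submodule K V) = ⊤ := congrArg Subrepresentation.toSubmodule he
      exact (Submodule.subsingleton_iff K).mp (subsingleton_of_bot_eq_top h')
    have hex : ∃ A : Subrepresentation T, A ≠ ⊥ ∧ A ≠ ⊤ := by
      by_contra hc
      push Not at hc
      exact hT { exists_pair_ne := ⟨⊥, ⊤, hne⟩, eq_bot_or_eq_top := fun A =>
        (em (A = ⊥)).imp_right (hc A) }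
    obtain ⟨A, hA0, hA1⟩ := hex
    haveI : NeZero (Nat.card G : K) := ⟨Nat.cast_ne_zero.2 Nat.card_pos.ne'⟩
    obtain ⟨B, hAB⟩ := exists_isCompl A
    have hB1 : B ≠ ⊤ := by rintro rfl; exact hA0 (by simpa using hAB.inf_eq_bot)
    have hs : ∀ U : Subrepresentation T, U ≠ ⊤ → Module.finrank K U.toSubmodule < n := fun U hU => by
      rw [← hn]
      exact Submodule.finrank_lt (fun he => hU (Subrepresentation.toSubmodule_injective he))
    have hc : IsCompl A.toSubmodule B.toSubmodule :=
      IsCompl.of_eq (congrArg Subrepresentation.toSubmodule hAB.inf_eq_bot)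
        (congrArg Subrepresentation.toSubmodule hAB.sup_eq_top)
    have hsum : (fun g => (T.character g : ℂ))
        = (fun g => ((A.toRepresentation).character g : ℂ))
          + fun g => ((B.toRepresentation).character g : ℂ) := by
      funext g
      let e := Submodule.prodEquivOfIsCompl A.toSubmodule B.toSubmodule hc
      have hconj : e.conj ((A.toRepresentation g).prodMap (B.toRepresentation g)) = T g := by
        refine LinearMap.ext fun v => ?_
        obtain ⟨⟨a, b⟩, rfl⟩ := e.surjective v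
        simp [LinearEquiv.conj_apply, e, Subrepresentation.toRepresentation, map_add]
      simp only [Pi.add_apply, ← IntermediateField.coe_add]
      congr 1
      show LinearMap.trace K V (T g) = _
      rw [← hconj, LinearMap.trace_conj', LinearMap.trace_prodMap']
      rfl
    rw [hsum]
    exact hadd _ _ (isSubfieldChar_of_rep _) (isSubfieldChar_of_rep _)
      (ih _ (hs A hA1) _ _ rfl) (ih _ (hs B hB1) _ _ rfl)

/-- An irreducible character in the span of `K`-characters is a `K`-character. -/
theorem isSubfieldChar_of_irr_sub {χ f₁ f₂ : G → ℂ} (hχ : IsIrrCharacter G χ)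
    (h₁ : IsSubfieldChar K f₁) (h₂ : IsSubfieldChar K f₂) (h : χ = f₁ - f₂) :
    IsSubfieldChar K χ := by
  classical
  let x : IrrCharacter G := ⟨χ, hχ⟩
  have h12 : classInner f₁ χ ≠ 0 ∨ classInner f₂ χ ≠ 0 := by
    by_contra hc
    push Not at hc
    have := CharCore.classInner_irr_self x
    rw [show (x : G → ℂ) = χ from rfl] at this
    nth_rewrite 1 [h] at this
    rw [CharCore.classInner_sub_left, hc.1, hc.2, sub_zero] at this
    exact zero_ne_one this
  obtain ⟨f, hf, hfχ⟩ : ∃ f, IsSubfieldChar K f ∧ classInner f χ ≠ 0 := by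
    rcases h12 with h' | h'
    exacts [⟨f₁, h₁, h'⟩, ⟨f₂, h₂, h'⟩]
  have hex : ∀ f, IsSubfieldChar K f → classInner f χ ≠ 0 →
      ∃ (V : Type) (_ : AddCommGroup V) (_ : Module K V) (_ : FiniteDimensional K V)
        (S : Representation K G V), S.IsIrreducible ∧
          classInner (fun g => (S.character g : ℂ)) χ ≠ 0 := by
    intro f hf
    refine subfield_rep_induction (P := fun f => classInner f χ ≠ 0 →
      ∃ (V : Type) (_ : AddCommGroup V) (_ : Module K V) (_ : FiniteDimensional K V)
        (S : Representation K G V), S.IsIrreducible ∧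
          classInner (fun g => (S.character g : ℂ)) χ ≠ 0) ?_ ?_ ?_ hf
    · intro h0
      simp [Cfsg.classInner] at h0
    · intro a b _ _ ha hb hab
      rw [CharCore.classInner_add_left] at hab
      by_cases h0 : classInner a χ = 0
      · rw [h0, zero_add] at hab; exact hb hab
      · exact ha h0
    · intro V _ _ _ T hT hT'
      exact ⟨V, _, _, ‹_›, T, hT, hT'⟩
  obtain ⟨W, _, _, _, S, hS, hSχ⟩ := hex f hf hfχ
  haveI := hS
  set s : G → ℂ := fun g => (S.character g : ℂ) with hs
  have hsc : IsCharacter G s := (isSubfieldChar_of_rep S).isCharacter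
  have hdiv : ∀ f, IsSubfieldChar K f → ∃ z : ℤ, classInner f s = z * classInner s s := by
    intro f hf
    refine subfield_rep_induction (P := fun f => ∃ z : ℤ, classInner f s = z * classInner s s)
      ⟨0, by simp [Cfsg.classInner]⟩ ?_ ?_ hf
    · rintro a b - - ⟨y, hy⟩ ⟨z, hz⟩
      exact ⟨y + z, by rw [CharCore.classInner_add_left, hy, hz]; push_cast; ring⟩
    · intro V _ _ _ T hT
      haveI := hT
      by_cases hiso : Nonempty (S.Equiv T)
      · obtain ⟨φ⟩ := hiso
        refine ⟨1, ?_⟩
        rw [Int.cast_one, one_mul, hs, Representation.char_iso φ]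
      · haveI : IsEmpty (S.Equiv T) := not_nonempty_iff.1 hiso
        exact ⟨0, by rw [hs, classInner_subfieldChar, finrank_zero_of_subsingleton]; simp⟩
  obtain ⟨y, hy⟩ := hdiv f₁ h₁
  obtain ⟨w, hw⟩ := hdiv f₂ h₂
  obtain ⟨m, hm⟩ := CharCore.IsCharacter.exists_sum hsc
  have hsx : classInner s χ = (m x : ℂ) := by
    rw [hm]; exact CharCore.classInner_sum_all (fun ψ => (m ψ : ℂ)) x
  have hxs : classInner χ s = (m x : ℂ) := by
    rw [← classInner_swap, hsx, Complex.conj_natCast]
  have hN : classInner s s = ((∑ ψ, m ψ * m ψ : ℕ) : ℂ) := by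
    rw [hm, CharCore.classInner_sum_sum]
    simp [Complex.conj_natCast]
  have he : (m x : ℤ) = (y - w) * ((∑ ψ, m ψ * m ψ : ℕ) : ℤ) := by
    have h' : (m x : ℂ) = ((y - w : ℤ) : ℂ) * ((∑ ψ, m ψ * m ψ : ℕ) : ℂ) := by
      rw [← hxs, h, CharCore.classInner_sub_left, hy, hw, hN]
      push_cast; ring
    exact_mod_cast h'
  have hx0 : 0 < m x := Nat.pos_of_ne_zero fun e => hSχ (by rw [hsx, e, Nat.cast_zero])
  have hge : m x * m x ≤ ∑ ψ, m ψ * m ψ :=
    Finset.single_le_sum (f := fun ψ => m ψ * m ψ) (fun _ _ => Nat.zero_le _) (Finset.mem_univ x)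
  have hNle : (∑ ψ, m ψ * m ψ) ≤ m x := by
    have hpos : 0 < y - w := by
      by_contra hc
      push Not at hc
      have : (m x : ℤ) ≤ 0 := he ▸ mul_nonpos_of_nonpos_of_nonneg hc (Int.natCast_nonneg _)
      omega
    exact_mod_cast (show ((∑ ψ, m ψ * m ψ : ℕ) : ℤ) ≤ (m x : ℤ) by
      rw [he]; exact le_mul_of_one_le_left (Int.natCast_nonneg _) hpos)
  have hx1 : m x = 1 := by
    have h1 : m x * m x ≤ m x := hge.trans hNle
    nlinarith [h1, hx0]
  have hN1 : classInner s s = 1 := by
    have hS1 : (∑ ψ, m ψ * m ψ) = 1 := le_antisymm (hNle.trans_eq hx1) (by simpa [hx1] using hge)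
    rw [hN, hS1, Nat.cast_one]
  have hsirr : IsIrrCharacter G s := CharCore.isIrrCharacter_iff.2 ⟨hsc, hN1⟩
  have heq : (⟨s, hsirr⟩ : IrrCharacter G) = x := by
    by_contra hne
    exact hSχ (CharCore.classInner_irr_of_ne hne)
  rw [show χ = s from (congrArg Subtype.val heq).symm]
  exact isSubfieldChar_of_rep S

/-- Monomial characters are defined over a field containing their values. -/
theorem isSubfieldChar_indFun (H : Subgroup G) (lam : H →* ℂˣ) (hK : ∀ h, (lam h : ℂ) ∈ K) :
    IsSubfieldChar K (indFun H fun h => (lam h : ℂ)) := by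
  classical
  haveI := Fintype.ofFinite (G ⧸ H)
  let l : H → K := fun h => ⟨lam h, hK h⟩
  have hl : ∀ a b, l (a * b) = l a * l b := fun a b => Subtype.ext (by simp [l])
  have hmem : ∀ (g : G) (q : G ⧸ H), q.out⁻¹ * g * (g⁻¹ • q).out ∈ H := fun g q => by
    rw [mul_assoc, ← QuotientGroup.eq, QuotientGroup.out_eq', ← smul_eq_mul,
      ← MulAction.Quotient.smul_mk, QuotientGroup.out_eq', smul_inv_smul]
  let σ : Representation K G (G ⧸ H → K) :=
    { toFun := fun g => LinearMap.pi fun q => l ⟨_, hmem g q⟩ • LinearMap.proj (g⁻¹ • q)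
      map_one' := by
        apply LinearMap.ext; intro f; funext q
        simp only [LinearMap.pi_apply, LinearMap.smul_apply, LinearMap.proj_apply,
          Module.End.one_apply, smul_eq_mul, inv_one, one_smul]
        have e : ∀ h : H, h = 1 → l h = 1 := fun h e => by subst e; exact Subtype.ext (by simp [l])
        rw [e _ (Subtype.ext (by simp)), one_mul]
      map_mul' := fun g g' => by
        apply LinearMap.ext; intro f; funext q
        simp only [LinearMap.pi_apply, LinearMap.smul_apply, LinearMap.proj_apply,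
          Module.End.mul_apply, smul_eq_mul]
        have hs : (g * g')⁻¹ • q = g'⁻¹ • g⁻¹ • q := by rw [mul_inv_rev, mul_smul]
        rw [← mul_assoc (l _) (l _), ← hl]
        have aux : ∀ (x y : G ⧸ H) (a b : H), x = y → a = b → l a * f x = l b * f y := by
          rintro x y a b rfl rfl; rfl
        refine aux _ _ _ _ hs (Subtype.ext ?_)
        simp only [Subgroup.coe_mul, mul_assoc, mul_inv_cancel_left, hs] }
  have h := isSubfieldChar_of_rep σ
  convert h using 1
  funext g
  rw [indFun_apply_cosets (fun a b => ?_) Quotient.out QuotientGroup.out_eq' g]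
  rotate_left
  · simp only [map_mul, map_inv]
    rw [mul_comm (lam b), mul_inv_cancel_right]
  rw [Representation.character, LinearMap.trace_eq_matrix_trace K (Pi.basisFun K (G ⧸ H))]
  simp only [Matrix.trace, Matrix.diag, LinearMap.toMatrix_apply, Pi.basisFun_apply,
    Pi.basisFun_repr]
  rw [AddSubmonoidClass.coe_finsetSum]
  refine Finset.sum_congr rfl fun q _ => ?_
  show _ = ((l ⟨_, hmem g q⟩ • (Pi.single q (1 : K) : G ⧸ H → K) (g⁻¹ • q) : K) : ℂ)
  have hiff : q.out⁻¹ * g * q.out ∈ H ↔ g⁻¹ • q = q := by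
    rw [mul_assoc, ← QuotientGroup.eq, inv_smul_eq_iff]
    conv_rhs => rw [← QuotientGroup.out_eq' q, MulAction.Quotient.smul_mk, smul_eq_mul]
  by_cases hq : g⁻¹ • q = q
  · rw [extendByZero_mem _ (hiff.2 hq)]
    have e : (⟨_, hmem g q⟩ : H) = ⟨_, hiff.2 hq⟩ := Subtype.ext (by simp [hq])
    have h1 : (Pi.single q (1 : K) : G ⧸ H → K) (g⁻¹ • q) = 1 :=
      by rw [hq]; exact Pi.single_eq_same (M := fun _ => K) q 1
    rw [e, h1, smul_eq_mul, mul_one]
  · rw [extendByZero_notMem _ fun h => hq (hiff.1 h), Pi.single_eq_of_ne hq, smul_zero]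
    rfl

/-- Every character is defined over `ℚ(ζ_e)`, `e` the exponent. -/
theorem isSubfieldChar_of_isCharacter {ζ : ℂ} (hζ : IsPrimitiveRoot ζ (Monoid.exponent G))
    (hζK : ζ ∈ K) {χ : G → ℂ} (hχ : IsCharacter G χ) : IsSubfieldChar K χ := by
  haveI : NeZero (Monoid.exponent G) := ⟨Monoid.exponent_ne_zero_of_finite⟩
  have hgen : ∀ f ∈ linSpan G, ∃ f₁ f₂, IsSubfieldChar K f₁ ∧ IsSubfieldChar K f₂ ∧ f = f₁ - f₂ := by
    intro f hf
    refine AddSubgroup.closure_induction
      (p := fun f _ => ∃ f₁ f₂, IsSubfieldChar K f₁ ∧ IsSubfieldChar K f₂ ∧ f = f₁ - f₂)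
      ?_ ?_ ?_ ?_ hf
    · rintro _ ⟨E, p, lam, -, -, rfl⟩
      refine ⟨_, 0, isSubfieldChar_indFun E lam fun h => ?_, isSubfieldChar_zero, (sub_zero _).symm⟩
      obtain ⟨i, -, hi⟩ := hζ.eq_pow_of_pow_eq_one (ξ := (lam h : ℂ)) (by
        rw [← Units.val_pow_eq_pow_val, ← map_pow,
          show h ^ Monoid.exponent G = 1 from Subtype.ext (Monoid.pow_exponent_eq_one (h : G)),
          map_one, Units.val_one])
      exact hi ▸ pow_mem hζK i
    · exact ⟨0, 0, isSubfieldChar_zero, isSubfieldChar_zero, (sub_zero _).symm⟩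
    · rintro a b _ _ ⟨a₁, a₂, ha₁, ha₂, rfl⟩ ⟨b₁, b₂, hb₁, hb₂, rfl⟩
      exact ⟨a₁ + b₁, a₂ + b₂, ha₁.add hb₁, ha₂.add hb₂, (add_sub_add_comm _ _ _ _).symm⟩
    · rintro a _ ⟨a₁, a₂, ha₁, ha₂, rfl⟩
      exact ⟨a₂, a₁, ha₂, ha₁, neg_sub _ _⟩
  obtain ⟨n, ρ, rfl⟩ := hχ
  refine AddSubmonoid.closure_induction (motive := fun f _ => IsSubfieldChar K f) ?_
    isSubfieldChar_zero (fun _ _ _ _ ha hb => ha.add hb) (CharCore.character_mem_closure ρ)
  intro f hf
  obtain ⟨f₁, f₂, h₁, h₂, h⟩ :=
    hgen f (isCharacter_mem_linSpan (CharCore.IsIrrCharacter.isCharacter hf))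
  exact isSubfieldChar_of_irr_sub hf h₁ h₂ h

end Cfsg.Agent.CharInd
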